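import Cfsg.Agent.Classical.Unitary.Root

/-!
# Frames of Hermitian spaces

A hyperbolic pair with an orthonormal family, the isometries given by their images, the diagonal
isometries, the shift of the family and the Siegel elements of the first vector.
-/

set_option autoImplicit false
set_option linter.unusedSectionVars false

namespace Cfsg.Lib.SUTwoGen

open Cfsg.Lib.Classical

universe u v

variable {F : Type u} [Field F] {V : Type v} [AddCommGroup V] [Module F V]

/-- A hyperbolic pair and an orthonormal family spanning everything. -/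
structure Frame (H : HermSpace F V) (l : ℕ) where
  /-- first vector of the pair -/
  e : V
  /-- second vector of the pair -/
  f : V
  /-- the orthonormal family -/
  r : Fin (l + 1) → V
  hee : H.h e e = 0
  hff : H.h f f = 0
  hef : H.h e f = 1
  her : ∀ i, H.h e (r i) = 0
  hfr : ∀ i, H.h f (r i) = 0
  hrr : ∀ i j, H.h (r i) (r j) = if i = j then 1 else 0
  span : ∀ x, x = H.h x f • e + H.h x e • f + ∑ i, H.h x (r i) • r i

namespace Frame

variable {H : HermSpace F V} {l : ℕ} (P : Frame H l)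

theorem hfe : H.h P.f P.e = 1 := by rw [H.symm, P.hef, map_one]

theorem hre (i : Fin (l + 1)) : H.h (P.r i) P.e = 0 := H.eq_zero_symm (P.her i)

theorem hrf (i : Fin (l + 1)) : H.h (P.r i) P.f = 0 := H.eq_zero_symm (P.hfr i)

theorem hrr_self (i : Fin (l + 1)) : H.h (P.r i) (P.r i) = 1 := by simp [P.hrr]

theorem hrr_ne {i j : Fin (l + 1)} (h : i ≠ j) : H.h (P.r i) (P.r j) = 0 := by simp [P.hrr, h]

theorem h_eq (x y : V) : H.h x y =
    H.h x P.f * H.σ (H.h y P.e) + H.h x P.e * H.σ (H.h y P.f) +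
      ∑ i, H.h x (P.r i) * H.σ (H.h y (P.r i)) := by
  conv_lhs => rw [P.span x]
  simp only [H.add_left, H.smul_left, H.sum_left, ← H.symm]

theorem ext {f g : V →ₗ[F] V} (he : f P.e = g P.e) (hf : f P.f = g P.f)
    (hr : ∀ i, f (P.r i) = g (P.r i)) (x : V) : f x = g x := by
  rw [P.span x]
  simp [he, hf, hr]

/-- The coordinates. -/
def coords : V ≃ₗ[F] (Fin 2 ⊕ Fin (l + 1) → F) where
  toFun x := Sum.elim ![H.h x P.f, H.h x P.e] fun i => H.h x (P.r i)
  invFun c := c (Sum.inl 0) • P.e + c (Sum.inl 1) • P.f + ∑ i, c (Sum.inr i) • P.r i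
  map_add' x y := by
    funext j
    rcases j with j | j
    · fin_cases j <;> simp [H.add_left]
    · simp [H.add_left]
  map_smul' c x := by
    funext j
    rcases j with j | j
    · fin_cases j <;> simp [H.smul_left]
    · simp [H.smul_left]
  left_inv x := (P.span x).symm
  right_inv c := by
    funext j
    rcases j with j | j
    · fin_cases j <;>
        simp [H.add_left, H.smul_left, H.sum_left, P.hee, P.hff, P.hef, P.hfe, P.hre, P.hrf]
    · simp [H.add_left, H.smul_left, H.sum_left, P.her, P.hfr, P.hrr]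

theorem coords_apply (x : V) :
    P.coords x = Sum.elim ![H.h x P.f, H.h x P.e] fun i => H.h x (P.r i) := rfl

/-- The basis of a frame. -/
noncomputable def basis : Module.Basis (Fin 2 ⊕ Fin (l + 1)) F V := Module.Basis.ofEquivFun P.coords

include P in
theorem finiteDimensional : FiniteDimensional F V := Module.Finite.of_basis P.basis

include P in
theorem finrank_eq : Module.finrank F V = l + 3 := by
  rw [Module.finrank_eq_card_basis P.basis, Fintype.card_sum, Fintype.card_fin, Fintype.card_fin]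
  omega

/-- The linear map with given values on the frame. -/
def mapLin (E E' : V) (R : Fin (l + 1) → V) : V →ₗ[F] V :=
  (H.lin P.f).smulRight E + (H.lin P.e).smulRight E' + ∑ i, (H.lin (P.r i)).smulRight (R i)

theorem mapLin_apply (E E' : V) (R : Fin (l + 1) → V) (x : V) :
    P.mapLin E E' R x = H.h x P.f • E + H.h x P.e • E' + ∑ i, H.h x (P.r i) • R i := by
  simp [mapLin, HermSpace.lin_apply]

theorem exists_map [FiniteDimensional F V] {E E' : V} {R : Fin (l + 1) → V} (h1 : H.h E E = 0) (h2 : H.h E' E' = 0)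
    (h3 : H.h E E' = 1) (h4 : ∀ i, H.h E (R i) = 0) (h5 : ∀ i, H.h E' (R i) = 0)
    (h6 : ∀ i j, H.h (R i) (R j) = if i = j then 1 else 0) :
    ∃ g : H.Isom, ∀ x, g.1 x = H.h x P.f • E + H.h x P.e • E' + ∑ i, H.h x (P.r i) • R i := by
  have h3' : H.h E' E = 1 := by rw [H.symm, h3, map_one]
  have hpres : ∀ x y, H.h (P.mapLin E E' R x) (P.mapLin E E' R y) = H.h x y := by
    intro x y
    rw [P.h_eq x y, mapLin_apply, mapLin_apply]
    simp [H.add_left, H.add_right, H.smul_left, H.smul_right, H.sum_left, H.sum_right, h1, h2, h3, h3',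
      h4, h5, fun i => H.eq_zero_symm (h4 i), fun i => H.eq_zero_symm (h5 i), h6, mul_comm]
  have hinj : Function.Injective (P.mapLin E E' R) := by
    rw [injective_iff_map_eq_zero]
    exact fun x hx => H.nondeg x fun y => by rw [← hpres, hx, H.zero_right]
  refine ⟨⟨LinearEquiv.ofInjectiveEndo (P.mapLin E E' R) hinj, fun x y => ?_⟩, fun x => ?_⟩
  · rw [LinearEquiv.coe_ofInjectiveEndo]; exact hpres x y
  · rw [LinearEquiv.coe_ofInjectiveEndo]; exact P.mapLin_apply E E' R x

theorem exists_diag [Finite F] [FiniteDimensional F V] {lam : F} (hlam : lam ≠ 0) {μ : Fin (l + 1) → F}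
    (hμ : ∀ i, μ i * H.σ (μ i) = 1) (hdet : lam * (H.σ lam)⁻¹ * ∏ i, μ i = 1) :
    ∃ t : H.SIsom, t.1.1 P.e = lam • P.e ∧ t.1.1 P.f = (H.σ lam)⁻¹ • P.f ∧
      ∀ i, t.1.1 (P.r i) = μ i • P.r i := by
  have hσ : H.σ lam ≠ 0 := (map_ne_zero _).mpr hlam
  obtain ⟨g, hg⟩ := P.exists_map (E := lam • P.e) (E' := (H.σ lam)⁻¹ • P.f) (R := fun i => μ i • P.r i)
    (by simp [H.smul_left, H.smul_right, P.hee]) (by simp [H.smul_left, H.smul_right, P.hff])
    (by rw [H.smul_left, H.smul_right, P.hef, map_inv₀, H.conj.invol, mul_one, mul_inv_cancel₀ hlam])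
    (fun i => by simp [H.smul_left, H.smul_right, P.her]) (fun i => by simp [H.smul_left, H.smul_right, P.hfr])
    (fun i j => by
      rcases eq_or_ne i j with rfl | h
      · simp [H.smul_left, H.smul_right, P.hrr, hμ]
      · simp [H.smul_left, H.smul_right, P.hrr, h])
  have hge : g.1 P.e = lam • P.e := by simp [hg, P.hee, P.hef, P.her]
  have hgf : g.1 P.f = (H.σ lam)⁻¹ • P.f := by simp [hg, P.hff, P.hfe, P.hfr]
  have hgr : ∀ i, g.1 (P.r i) = μ i • P.r i := fun i => by simp [hg, P.hre, P.hrf, P.hrr]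
  have hmem : g ∈ H.SIsom := by
    rw [HermSpace.mem_SIsom]
    refine Units.ext ?_
    rw [LinearEquiv.coe_det, Units.val_one, ← LinearMap.det_toMatrix P.basis]
    set d : Fin 2 ⊕ Fin (l + 1) → F := Sum.elim ![lam, (H.σ lam)⁻¹] μ
    have hrep : ∀ x k, P.basis.repr (g.1 x) k = d k * P.basis.repr x k := by
      intro x k
      simp only [basis, Module.Basis.ofEquivFun_repr_apply, coords_apply, hg, d]
      rcases k with k | k
      · fin_cases k <;>
          simp [H.add_left, H.smul_left, H.sum_left, P.hee, P.hff, P.hef, P.hfe, P.hre, P.hrf, mul_comm]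
      · simp [H.add_left, H.smul_left, H.sum_left, P.her, P.hfr, P.hrr, mul_comm]
    have hM : LinearMap.toMatrix P.basis P.basis g.1.toLinearMap = Matrix.diagonal d := by
      ext i j
      rw [LinearMap.toMatrix_apply, LinearEquiv.coe_coe, hrep, Module.Basis.repr_self, Matrix.diagonal_apply,
        Finsupp.single_apply]
      by_cases h : i = j
      · subst h; simp
      · simp [h, Ne.symm h]
    rw [hM, Matrix.det_diagonal, Fintype.prod_sum_type]
    simpa [d, Fin.prod_univ_two] using hdet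
  exact ⟨⟨g, hmem⟩, hge, hgf, hgr⟩

theorem exists_shift [Finite F] [FiniteDimensional F V] :
    ∃ w : H.SIsom, w.1.1 P.e = P.f ∧ w.1.1 P.f = P.e ∧
      (∀ i : Fin l, w.1.1 (P.r i.castSucc) = P.r i.succ) ∧
      ∃ z : F, z ≠ 0 ∧ w.1.1 (P.r (Fin.last l)) = z • P.r 0 := by
  obtain ⟨g, hg⟩ := P.exists_map (E := P.f) (E' := P.e) (R := fun i => P.r (i + 1)) P.hff P.hee P.hfe
    (fun i => P.hfr _) (fun i => P.her _) (fun i j => by simp [P.hrr])
  have hr0 := P.hrr_self 0
  obtain ⟨z, hz⟩ := H.exists_SIsom_correct g hr0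
  refine ⟨⟨_, hz⟩, ?_, ?_, fun i => ?_, (z.1 : F), z.1.ne_zero, ?_⟩
  · rw [HermSpace.mul_apply', show g.1 P.e = P.f by simp [hg, P.hee, P.hef, P.her],
      H.qrefl_orth hr0 z (P.hfr 0)]
  · rw [HermSpace.mul_apply', show g.1 P.f = P.e by simp [hg, P.hff, P.hfe, P.hfr],
      H.qrefl_orth hr0 z (P.her 0)]
  · rw [HermSpace.mul_apply', show g.1 (P.r i.castSucc) = P.r i.succ by
      simp [hg, P.hre, P.hrf, P.hrr],
      H.qrefl_orth hr0 z (P.hrr_ne (Fin.succ_ne_zero i))]
  · rw [HermSpace.mul_apply', show g.1 (P.r (Fin.last l)) = P.r 0 by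
      simp [hg, P.hre, P.hrf, P.hrr, Fin.last_add_one],
      H.qrefl_self hr0 z]

/-- A Siegel element of the first vector in the direction of the first member of the family. -/
def IsSiegel (g : H.SIsom) (c a : F) : Prop :=
  ∀ x, g.1.1 x = x + (c * H.h x P.e) • P.r 0 + (a * H.h x P.e - H.σ c * H.h x (P.r 0)) • P.e

theorem exists_siegel {c a : F} (ha : a + H.σ a = -(c * H.σ c)) : ∃ g, P.IsSiegel g c a := by
  have hw : H.h (c • P.r 0) P.e = 0 := by rw [H.smul_left, P.hre, mul_zero]
  have ha' : a + H.σ a = -H.h (c • P.r 0) (c • P.r 0) := by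
    rw [H.smul_left, H.smul_right, P.hrr_self, mul_one]; exact ha
  refine ⟨⟨H.siegel P.hee hw ha', H.siegel_mem_SIsom _ _ _⟩, fun x => ?_⟩
  rw [HermSpace.siegel_apply, H.smul_right, smul_smul, mul_comm c]

variable {P}

theorem IsSiegel.trace {g : H.SIsom} {c a : F} (h : P.IsSiegel g c a) : a + H.σ a = -(c * H.σ c) := by
  have := H.map_form g.1 P.f P.f
  rw [h P.f, P.hff] at this
  simp [P.hfe, P.hfr, H.add_left, H.add_right, H.smul_left, H.smul_right, P.hff, P.hee, P.hef, P.hre, P.hrf,
    P.her, P.hrr] at this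
  linear_combination this

theorem IsSiegel.mul {g g' : H.SIsom} {c a c' a' : F} (h : P.IsSiegel g c a) (h' : P.IsSiegel g' c' a') :
    P.IsSiegel (g * g') (c + c') (a + a' - H.σ c * c') := fun x => by
  rw [H.smul_mul_apply, h' x, h]
  simp only [H.add_left, H.smul_left, P.hre, P.hee, P.her, P.hrr_self, map_add]
  module

theorem IsSiegel.inv {g : H.SIsom} {c a : F} (h : P.IsSiegel g c a) : P.IsSiegel g⁻¹ (-c) (H.σ a) := by
  obtain ⟨g', hg'⟩ := P.exists_siegel (c := -c) (a := H.σ a) (by
    rw [H.conj.invol, map_neg, neg_mul_neg, add_comm]; exact h.trace)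
  suffices e : g' = g⁻¹ from e ▸ hg'
  refine eq_inv_of_mul_eq_one_right (H.sisom_ext fun x => ?_)
  have e := h.mul hg' x
  rw [show c + -c = 0 by ring, show a + H.σ a - H.σ c * -c = 0 by linear_combination h.trace, map_zero] at e
  simpa using e

theorem IsSiegel.conj {g t : H.SIsom} {c a lam m : F} (h : P.IsSiegel g c a) (hte : t.1.1 P.e = lam • P.e)
    (htr : t.1.1 (P.r 0) = m • P.r 0) :
    P.IsSiegel (t * g * t⁻¹) (H.σ lam * m * c) (lam * H.σ lam * a) := fun x => by
  rw [H.smul_mul_apply, H.smul_mul_apply, h, map_add, map_add, map_smul, map_smul, hte, htr]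
  have e : ∀ y, H.h ((t⁻¹).1.1 x) y = H.h x (t.1.1 y) := fun y => by
    rw [← H.map_form t.1]
    exact congrArg (fun z => H.h z _) (H.apply_inv_self t.1 x)
  rw [e, e, hte, htr, H.smul_right, H.smul_right, show t.1.1 ((t⁻¹).1.1 x) = x from H.apply_inv_self t.1 x,
    map_mul, map_mul, H.conj.invol]
  module

variable (P)

/-- The vectors with no coordinate at the places from `j` on. -/
def below (j : ℕ) : Submodule F V where
  carrier := {x | ∀ i : Fin (l + 1), j ≤ i.val → H.h x (P.r i) = 0}
  add_mem' {x y} hx hy i hi := by rw [H.add_left, hx i hi, hy i hi, add_zero]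
  zero_mem' i hi := H.zero_left _
  smul_mem' c x hx i hi := by rw [H.smul_left, hx i hi, mul_zero]

theorem mem_below {j : ℕ} {x : V} : x ∈ P.below j ↔ ∀ i : Fin (l + 1), j ≤ i.val → H.h x (P.r i) = 0 :=
  Iff.rfl

theorem e_mem_below (j : ℕ) : P.e ∈ P.below j := fun i _ => P.her i

theorem f_mem_below (j : ℕ) : P.f ∈ P.below j := fun i _ => P.hfr i

theorem r_mem_below {j : ℕ} {i : Fin (l + 1)} (h : i.val < j) : P.r i ∈ P.below j := fun k hk =>
  P.hrr_ne fun e => by rw [e] at h; omega

theorem below_top (x : V) : x ∈ P.below (l + 1) := fun i hi => absurd i.isLt (by omega)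

end Frame

/-- Frames exist in dimension at least three. -/
theorem exists_frame [Finite F] [FiniteDimensional F V] (H : HermSpace F V) {l : ℕ}
    (hd : Module.finrank F V = l + 3) : Nonempty (Frame H l) := by
  obtain ⟨e, he0, hee⟩ := H.exists_isotropic_of_two_le (by omega)
  obtain ⟨f, hef, hff⟩ := H.exists_hyperbolic he0 hee
  have hfe : H.h f e = 1 := by rw [H.symm, hef, map_one]
  have hW := H.nondegOn_hyperbolic hee hef
  set U := H.orth (Submodule.span F ({e, f} : Set V)) with hU
  obtain ⟨b, hb⟩ := HermSpace.orthonormal_aux (l + 1) (H.restrict U (H.nondegOn_orth hW))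
    (by rw [H.finrank_orth, H.finrank_hyperbolic hee hef, hd]; omega)
  have hbe : ∀ i, H.h (b i : V) e = 0 := fun i => (b i).2 e (Submodule.subset_span (by simp))
  have hbf : ∀ i, H.h (b i : V) f = 0 := fun i => (b i).2 f (Submodule.subset_span (by simp))
  refine ⟨{ e := e, f := f, r := fun i => (b i : V), hee := hee, hff := hff, hef := hef,
            her := fun i => H.eq_zero_symm (hbe i), hfr := fun i => H.eq_zero_symm (hbf i),
            hrr := hb, span := fun x => ?_ }⟩
  have hy : x - H.h x f • e - H.h x e • f ∈ U := by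
    rw [hU, H.mem_orth_span]
    intro w hw
    rcases hw with rfl | rfl
    · simp [H.sub_left, H.smul_left, hee, hfe]
    · simp [H.sub_left, H.smul_left, hff, hef]
  have hc : ∀ i, b.repr ⟨_, hy⟩ i = H.h x (b i : V) := by
    intro i
    have h := (H.restrict U (H.nondegOn_orth hW)).h_eq_sum b hb ⟨_, hy⟩ (b i)
    rw [Finset.sum_eq_single i (fun j _ hj => by simp [hj]) (by simp),
      Module.Basis.repr_self, Finsupp.single_eq_same, map_one, mul_one] at h
    rw [← h]
    change H.h (x - H.h x f • e - H.h x e • f) (b i : V) = _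
    simp [H.sub_left, H.smul_left, H.eq_zero_symm (hbe i), H.eq_zero_symm (hbf i)]
  have h := congrArg Subtype.val (b.sum_repr ⟨_, hy⟩)
  simp only [hc, AddSubmonoidClass.coe_finsetSum, Submodule.coe_smul] at h
  rw [h]
  abel

end Cfsg.Lib.SUTwoGen
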