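import Cfsg.Agent.Known.SUTwoGen.Step
import Cfsg.Agent.Known.SUTwoGen.Frame

/-!
# Two elements and their transvection centres

A diagonal element and a Siegel element times the shift generate a group with the first vector and
its image as centres; from there the centres grow one member of the family at a time.
-/

set_option autoImplicit false
set_option linter.unusedSectionVars false

namespace Cfsg.Lib.SUTwoGen

open Cfsg.Lib.Classical

universe u v

variable {F : Type u} [Field F] [Finite F] {V : Type v} [AddCommGroup V] [Module F V] [FiniteDimensional F V]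
  {H : HermSpace F V} {l : ℕ}

/-- The parameters of the two elements. -/
structure Par (P : Frame H l) where
  /-- the eigenvalue at the first vector -/
  lam : Fˣ
  gen : ∀ y : Fˣ, y ∈ Subgroup.zpowers lam
  /-- the eigenvalues on the family -/
  μ : Fin (l + 1) → F
  hμ : ∀ i, μ i * H.σ (μ i) = 1
  hdet : (lam : F) * (H.σ lam)⁻¹ * ∏ i, μ i = 1
  /-- an element of trace one -/
  th : F
  hth : th + H.σ th = 1
  hk : H.σ (H.σ lam * μ 0) ≠ H.σ lam * μ 0
  hk' : (lam : F)⁻¹ * μ (Fin.last l) ≠ 1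

namespace Par

variable {P : Frame H l} (Q : Par P)

/-- The diagonal generator. -/
noncomputable def t : H.SIsom :=
  Classical.choose (P.exists_diag Q.lam.ne_zero Q.hμ Q.hdet)

theorem t_e : Q.t.1.1 P.e = (Q.lam : F) • P.e :=
  (Classical.choose_spec (P.exists_diag Q.lam.ne_zero Q.hμ Q.hdet)).1

theorem t_f : Q.t.1.1 P.f = (H.σ Q.lam)⁻¹ • P.f :=
  (Classical.choose_spec (P.exists_diag Q.lam.ne_zero Q.hμ Q.hdet)).2.1

theorem t_r (i : Fin (l + 1)) : Q.t.1.1 (P.r i) = Q.μ i • P.r i :=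
  (Classical.choose_spec (P.exists_diag Q.lam.ne_zero Q.hμ Q.hdet)).2.2 i

/-- The shift. -/
noncomputable def w (_ : Par P) : H.SIsom := Classical.choose P.exists_shift

theorem w_e : Q.w.1.1 P.e = P.f := (Classical.choose_spec P.exists_shift).1

theorem w_f : Q.w.1.1 P.f = P.e := (Classical.choose_spec P.exists_shift).2.1

theorem w_r (i : Fin l) : Q.w.1.1 (P.r i.castSucc) = P.r i.succ :=
  (Classical.choose_spec P.exists_shift).2.2.1 i

theorem w_last : ∃ z : F, z ≠ 0 ∧ Q.w.1.1 (P.r (Fin.last l)) = z • P.r 0 :=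
  (Classical.choose_spec P.exists_shift).2.2.2

theorem trace_th : -Q.th + H.σ (-Q.th) = -((1 : F) * H.σ 1) := by
  rw [map_neg, map_one, mul_one]; linear_combination -Q.hth

/-- The Siegel element. -/
noncomputable def sieg : H.SIsom := Classical.choose (P.exists_siegel Q.trace_th)

theorem sieg_spec : P.IsSiegel Q.sieg 1 (-Q.th) := Classical.choose_spec (P.exists_siegel Q.trace_th)

/-- The second generator. -/
noncomputable def b : H.SIsom := Q.sieg * Q.w

/-- The group generated by the two elements. -/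
noncomputable def grp : Subgroup H.SIsom := Subgroup.closure {Q.t, Q.b}

theorem t_mem : Q.t ∈ Q.grp := Subgroup.subset_closure (Or.inl rfl)

theorem b_mem : Q.b ∈ Q.grp := Subgroup.subset_closure (Or.inr rfl)

/-- The conjugate of the diagonal element by the shift. -/
noncomputable def t' : H.SIsom := Q.w * Q.t * Q.w⁻¹

theorem t'_apply {x y : V} {a c : F} (hc : c ≠ 0) (hw : Q.w.1.1 x = c • y) (ht : Q.t.1.1 x = a • x) :
    Q.t'.1.1 y = a • y := by
  have hx : (Q.w⁻¹).1.1 y = c⁻¹ • x := by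
    rw [show y = c⁻¹ • Q.w.1.1 x by rw [hw, smul_smul, inv_mul_cancel₀ hc, one_smul], map_smul]
    exact congrArg (c⁻¹ • ·) (H.inv_apply_self Q.w.1 x)
  rw [t', H.smul_mul_apply, H.smul_mul_apply, hx, map_smul, map_smul, ht, map_smul, hw, smul_smul, smul_smul]
  congr 1
  field_simp

theorem t'_e : Q.t'.1.1 P.e = (H.σ Q.lam)⁻¹ • P.e :=
  Q.t'_apply one_ne_zero (by rw [one_smul]; exact Q.w_f) Q.t_f

theorem t'_f : Q.t'.1.1 P.f = (Q.lam : F) • P.f :=
  Q.t'_apply one_ne_zero (by rw [one_smul]; exact Q.w_e) Q.t_e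

theorem t'_zero : Q.t'.1.1 (P.r 0) = Q.μ (Fin.last l) • P.r 0 := by
  obtain ⟨z, hz, hw⟩ := Q.w_last
  exact Q.t'_apply hz hw (Q.t_r _)

theorem t'_succ (i : Fin l) : Q.t'.1.1 (P.r i.succ) = Q.μ i.castSucc • P.r i.succ :=
  Q.t'_apply one_ne_zero (by rw [one_smul]; exact Q.w_r i) (Q.t_r _)

theorem t'_diag (i : Fin (l + 1)) : ∃ a : F, Q.t'.1.1 (P.r i) = a • P.r i :=
  Fin.cases ⟨_, Q.t'_zero⟩ (fun j => ⟨_, Q.t'_succ j⟩) i

theorem commute_t' : Commute Q.t Q.t' := by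
  refine H.sisom_ext fun x => P.ext (f := (Q.t * Q.t').1.1.toLinearMap) (g := (Q.t' * Q.t).1.1.toLinearMap)
    ?_ ?_ (fun i => ?_) x <;> simp only [LinearEquiv.coe_coe, H.smul_mul_apply]
  · simp [Q.t_e, Q.t'_e, smul_smul, mul_comm]
  · simp [Q.t_f, Q.t'_f, smul_smul, mul_comm]
  · obtain ⟨a, ha⟩ := Q.t'_diag i
    simp [Q.t_r, ha, smul_smul, mul_comm]

theorem exists_uT : ∃ c0 : F, ∃ hc0 : c0 + H.σ c0 = 0, c0 ≠ 0 ∧ H.sT P.hee hc0 ∈ Q.grp := by
  set κ := H.σ (Q.lam : F) * Q.μ 0 with hκ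
  have hκ1 : κ ≠ 1 := fun e => Q.hk (by rw [← hκ, e, map_one])
  -- a Siegel element with non-zero parameter
  have hP := Q.sieg_spec.mul (Q.sieg_spec.inv.conj (t := Q.t') Q.t'_e Q.t'_zero)
  set S := Q.sieg * (Q.t' * Q.sieg⁻¹ * Q.t'⁻¹) with hS
  have hQ := (hP.conj Q.t_e (Q.t_r 0)).mul hP.inv
  set R := Q.t * S * Q.t⁻¹ * S⁻¹ with hR
  have hRmem : R ∈ Q.grp := by
    have hZ : Q.b * Q.t * Q.b⁻¹ ∈ Q.grp :=
      mul_mem (mul_mem Q.b_mem Q.t_mem) (inv_mem Q.b_mem)
    have h := mul_mem (mul_mem (mul_mem Q.t_mem hZ) (inv_mem Q.t_mem)) (inv_mem hZ)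
    have e : Q.b * Q.t * Q.b⁻¹ = S * Q.t' := by rw [hS, b, t']; group
    rw [e] at h
    have e' : Q.t * (S * Q.t') * Q.t⁻¹ * (S * Q.t')⁻¹ = R := by
      calc Q.t * (S * Q.t') * Q.t⁻¹ * (S * Q.t')⁻¹
          = Q.t * S * (Q.t' * Q.t⁻¹) * Q.t'⁻¹ * S⁻¹ := by group
        _ = Q.t * S * (Q.t⁻¹ * Q.t') * Q.t'⁻¹ * S⁻¹ := by rw [Q.commute_t'.inv_left.symm.eq]
        _ = R := by rw [hR]; group
    rwa [e'] at h
  revert hQ
  generalize hac : H.σ (Q.lam : F) * Q.μ 0 * (1 + H.σ (H.σ (Q.lam : F))⁻¹ * Q.μ (Fin.last l) * -1) +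
    -(1 + H.σ (H.σ (Q.lam : F))⁻¹ * Q.μ (Fin.last l) * -1) = c
  intro hQ
  have hc : c ≠ 0 := by
    rw [← hac, map_inv₀, H.conj.invol, ← hκ]
    have h2 : (1 : F) - (Q.lam : F)⁻¹ * Q.μ (Fin.last l) ≠ 0 := sub_ne_zero.2 (Ne.symm Q.hk')
    have h3 := mul_ne_zero (sub_ne_zero.2 hκ1) h2
    exact fun e => h3 (by linear_combination e)
  revert hQ
  generalize (Q.lam : F) * H.σ Q.lam * _ + H.σ _ - _ = a
  intro hQ
  have hA := hQ.conj Q.t_e (Q.t_r 0)
  have hG := ((hA.mul hQ).mul hA.inv).mul hQ.inv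
  set G := Q.t * R * Q.t⁻¹ * R * (Q.t * R * Q.t⁻¹)⁻¹ * R⁻¹ with hGdef
  have hGmem : G ∈ Q.grp := by
    have h := mul_mem (mul_mem Q.t_mem hRmem) (inv_mem Q.t_mem)
    exact mul_mem (mul_mem (mul_mem h hRmem) (inv_mem h)) (inv_mem hRmem)
  rw [← hκ, show κ * c + c + -(κ * c) + -c = 0 by ring] at hG
  set c0 := H.σ c * (κ * c) - H.σ (κ * c) * c with hc0def
  have hc0 : c0 + H.σ c0 = 0 := by
    rw [hc0def]; simp only [map_sub, map_mul, H.conj.invol]; ring
  refine ⟨c0, hc0, ?_, ?_⟩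
  · intro e
    have h2 : H.σ c * c * (κ - H.σ κ) = 0 := by
      rw [hc0def] at e; simp only [map_mul] at e; linear_combination e
    exact mul_ne_zero (mul_ne_zero ((map_ne_zero _).mpr hc) hc) (sub_ne_zero.2 fun e => Q.hk e.symm) h2
  · convert hGmem using 1
    refine H.sisom_ext fun x => ?_
    rw [H.sT_apply, hG x]
    have t1 := hA.trace
    have t2 := hQ.trace
    rw [← hκ] at t1
    simp only [zero_mul, zero_smul, map_zero, sub_zero, add_zero, hc0def]
    congr 1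
    congr 1
    simp only [map_add, map_neg, map_mul] at t1 ⊢
    linear_combination -(H.h x P.e) * (t1 + t2)

theorem e_centre : P.e ∈ H.uCentres Q.grp := by
  obtain ⟨c0, hc0, hne, hG⟩ := Q.exists_uT
  refine ⟨P.hee, fun c hc => ?_⟩
  change H.sT P.hee hc ∈ Q.grp
  rcases eq_or_ne c 0 with rfl | hcne
  · convert Q.grp.one_mem using 1
    refine H.sisom_ext fun x => ?_
    rw [H.sT_apply, zero_mul, zero_smul, add_zero]
    rfl
  obtain ⟨y, hy⟩ := H.conj.norm_surjective (a := c / c0) (by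
    rw [map_div₀, eq_neg_of_add_eq_zero_right hc, eq_neg_of_add_eq_zero_right hc0, neg_div_neg_eq])
  have hy0 : y ≠ 0 := fun e => hcne (by
    rw [e, zero_mul, eq_comm, div_eq_zero_iff] at hy; exact hy.resolve_right hne)
  obtain ⟨i, hi⟩ := Subgroup.mem_zpowers_iff.1 (Q.gen (Units.mk0 y hy0))
  have hpow : ∀ i : ℤ, (Q.t ^ i).1.1 P.e = ((Q.lam ^ i : Fˣ) : F) • P.e := by
    intro i
    induction i with
    | zero => simp
    | succ i ih =>
      rw [zpow_add_one, H.smul_mul_apply, Q.t_e, map_smul, ih, smul_smul, zpow_add_one, Units.val_mul,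
        mul_comm]
    | pred i ih =>
      have e : (Q.t⁻¹).1.1 P.e = (Q.lam : F)⁻¹ • P.e := by
        have h1 : (Q.t⁻¹).1.1 (Q.t.1.1 P.e) = P.e := H.inv_apply_self Q.t.1 P.e
        rw [Q.t_e, map_smul] at h1
        rw [← inv_smul_smul₀ Q.lam.ne_zero ((Q.t⁻¹).1.1 P.e), h1]
      rw [zpow_sub_one, H.smul_mul_apply, e, map_smul, ih, smul_smul, zpow_sub_one, Units.val_mul,
        Units.val_inv_eq_inv_val, mul_comm]
  convert mul_mem (mul_mem (zpow_mem Q.t_mem i) hG) (inv_mem (zpow_mem Q.t_mem i)) using 1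
  rw [H.sT_conj]
  refine H.sisom_ext fun x => ?_
  rw [H.sT_apply, H.sT_apply, hpow, hi, Units.val_mk0, H.smul_right, smul_smul]
  congr 2
  rw [eq_div_iff hne] at hy
  linear_combination -(H.h x P.e) * hy

/-- The image of the first vector under the second generator. -/
def u : V := P.f + P.r 0 - Q.th • P.e

theorem b_e : Q.b.1.1 P.e = Q.u := by
  rw [b, H.smul_mul_apply, Q.w_e, Q.sieg_spec, u, P.hfe, P.hfr, map_one]
  module

theorem u_centre : Q.u ∈ H.uCentres Q.grp :=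
  Q.b_e ▸ HermSpace.uCentres_map Q.e_centre Q.b_mem

theorem h_e_u : H.h P.e Q.u = 1 := by
  simp [u, H.add_right, H.sub_right, H.smul_right, P.hef, P.her, P.hee]

theorem h_u_r (i : Fin (l + 1)) : H.h Q.u (P.r i) = if (0 : Fin (l + 1)) = i then 1 else 0 := by
  simp [u, H.add_left, H.sub_left, H.smul_left, P.hfr, P.her, P.hrr]

theorem b_coord (v : V) (i : Fin l) : H.h (Q.b.1.1 v) (P.r i.succ) = H.h v (P.r i.castSucc) := by
  rw [b, H.smul_mul_apply, Q.sieg_spec]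
  simp only [H.add_left, H.smul_left, P.her, P.hrr_ne (Ne.symm (Fin.succ_ne_zero i)), mul_zero, add_zero]
  rw [← Q.w_r i]
  exact H.map_form Q.w.1 _ _

theorem exists_seed : ∀ (j : ℕ) (hj : j < l + 1),
    ∃ v ∈ H.uCentres Q.grp, v ∈ P.below (j + 1) ∧ H.h v (P.r ⟨j, hj⟩) = 1 := by
  intro j
  induction j with
  | zero =>
    refine fun hj => ⟨Q.u, Q.u_centre, fun i hi => ?_, by simp [Q.h_u_r]⟩
    rw [Q.h_u_r, if_neg]
    intro e
    rw [← e] at hi
    simp at hi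
  | succ j ih =>
    intro hj
    obtain ⟨v, hv, hvW, hv1⟩ := ih (by omega)
    refine ⟨Q.b.1.1 v, HermSpace.uCentres_map hv Q.b_mem, fun i hi => ?_, ?_⟩
    · obtain ⟨k, rfl⟩ : ∃ k : Fin l, i = k.succ :=
        ⟨⟨i.val - 1, by have := i.isLt; omega⟩, Fin.ext (by simp; omega)⟩
      rw [Q.b_coord]
      exact hvW _ (by simp at hi ⊢; omega)
    · rw [show (⟨j + 1, hj⟩ : Fin (l + 1)) = (⟨j, by omega⟩ : Fin l).succ from rfl, Q.b_coord]
      exact hv1

/-- The first step. -/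
theorem first_fill : ∀ v ∈ P.below 1, H.h v v = 0 → v ∈ H.uCentres Q.grp := by
  have hue : H.h Q.u P.e = 1 := by rw [H.symm, Q.h_e_u, map_one]
  have hu := HermSpace.uCentres_iso Q.u_centre
  have hbb : H.h (P.r 0 - P.e) (P.r 0 - P.e) = 1 := by
    simp [H.sub_left, H.sub_right, P.hre, P.her, P.hee, P.hrr]
  have hbe : H.h P.e (P.r 0 - P.e) = 0 := by simp [H.sub_right, P.her, P.hee]
  have hbu : H.h Q.u (P.r 0 - P.e) = 0 := by
    rw [H.sub_right, Q.h_u_r, if_pos rfl, hue, sub_self]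
  let W : Submodule F V := Submodule.span F {P.e, Q.u}
  let Y : Setup H Q.grp :=
    { W := W
      e := P.e
      f := Q.u
      b := P.r 0 - P.e
      he := Submodule.subset_span (Or.inl rfl)
      hf := Submodule.subset_span (Or.inr rfl)
      hee := P.hee
      hff := hu
      hef := Q.h_e_u
      hb := fun w hw => by
        obtain ⟨x, y, rfl⟩ := Submodule.mem_span_pair.1 hw
        rw [H.add_left, H.smul_left, H.smul_left, hbe, hbu, mul_zero, mul_zero, add_zero]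
      hbb := by rw [hbb]; exact one_ne_zero
      hW := fun w hw hww => by
        obtain ⟨x, y, rfl⟩ := Submodule.mem_span_pair.1 hw
        exact HermSpace.uCentres_span Q.e_centre Q.u_centre (by rw [Q.h_e_u]; exact one_ne_zero) hww }
  -- the seed
  set p := Q.μ 0 - (H.σ (Q.lam : F))⁻¹ with hp
  have hp0 : p ≠ 0 := by
    intro e
    rw [hp, sub_eq_zero] at e
    exact Q.hk (by rw [e, mul_inv_cancel₀ ((map_ne_zero _).mpr Q.lam.ne_zero), map_one])
  set A := (H.σ (Q.lam : F))⁻¹ * Q.th + p - Q.th * Q.lam with hA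
  have hseed : Y.pl (p⁻¹ * A) (p⁻¹ * (H.σ (Q.lam : F))⁻¹) ∈ Y.S := by
    have e : Y.pl (p⁻¹ * A) (p⁻¹ * (H.σ (Q.lam : F))⁻¹) + Y.b = p⁻¹ • Q.t.1.1 Q.u := by
      have ht : Q.t.1.1 Q.u = A • P.e + (H.σ (Q.lam : F))⁻¹ • Q.u + p • (P.r 0 - P.e) := by
        simp only [u, map_add, map_sub, map_smul, Q.t_e, Q.t_f, Q.t_r, hA, hp]
        module
      rw [ht, smul_add, smul_add, smul_smul, smul_smul, smul_smul, inv_mul_cancel₀ hp0, one_smul]
      rfl
    have hC : Y.pl (p⁻¹ * A) (p⁻¹ * (H.σ (Q.lam : F))⁻¹) + Y.b ∈ H.uCentres Q.grp :=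
      e ▸ HermSpace.uCentres_smul (HermSpace.uCentres_map Q.u_centre Q.t_mem) _
    refine ⟨Y.pl_mem _ _, ?_, hC⟩
    have h0 := HermSpace.uCentres_iso hC
    rw [H.add_left, H.add_right, H.add_right, Y.hb _ (Y.pl_mem _ _), Y.hb' (Y.pl_mem _ _)] at h0
    rw [Setup.μ]
    linear_combination h0
  have hS : ∀ a ∈ Y.W, H.h a a = Y.μ → a ∈ Y.S := by
    intro a ha hn
    obtain ⟨x, y, rfl⟩ := Submodule.mem_span_pair.1 ha
    rw [show x • P.e + y • Q.u = Y.pl x y from rfl] at hn ⊢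
    rw [Y.h_pl] at hn
    exact Y.pl_conn hseed hn
  intro v hv hvv
  refine Y.fill_of_S hS v (Y.mem_W'.2 ⟨(H.h v P.f + (Q.th - 1) * H.h v P.e + H.h v (P.r 0)) • P.e +
    H.h v P.e • Q.u, Submodule.mem_span_pair.2 ⟨_, _, rfl⟩, H.h v (P.r 0) - H.h v P.e, ?_⟩) hvv
  have hsum : ∑ i, H.h v (P.r i) • P.r i = H.h v (P.r 0) • P.r 0 :=
    Finset.sum_eq_single 0 (fun i _ hi => by
      rw [hv i (Nat.one_le_iff_ne_zero.2 fun e => hi (Fin.ext e)), zero_smul]) (by simp)
  conv_lhs => rw [P.span v, hsum]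
  show _ = _ + _ + _ • (P.r 0 - P.e)
  rw [u]
  module

/-- The step in the direction of the `j`th member. -/
def stp (j : Fin (l + 1)) (hfill : ∀ v ∈ P.below j.val, H.h v v = 0 → v ∈ H.uCentres Q.grp) :
    Setup H Q.grp where
  W := P.below j.val
  e := P.e
  f := P.f
  b := P.r j
  he := P.e_mem_below _
  hf := P.f_mem_below _
  hee := P.hee
  hff := P.hff
  hef := P.hef
  hb w hw := hw j le_rfl
  hbb := by rw [P.hrr_self]; exact one_ne_zero
  hW := hfill

theorem stp_seed (j : Fin (l + 1)) (hfill : ∀ v ∈ P.below j.val, H.h v v = 0 → v ∈ H.uCentres Q.grp)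
    {v : V} (hv : v ∈ H.uCentres Q.grp) (hvW : v ∈ P.below (j.val + 1)) (hvj : H.h v (P.r j) = 1) :
    v - P.r j ∈ (Q.stp j hfill).S := by
  have hW : v - P.r j ∈ P.below j.val := fun i hi => by
    rcases eq_or_ne j i with rfl | h
    · rw [H.sub_left, hvj, P.hrr_self, sub_self]
    · rw [H.sub_left, P.hrr_ne h, sub_zero]
      exact hvW i (Nat.lt_of_le_of_ne hi fun e => h (Fin.ext e))
  refine ⟨hW, ?_, by rwa [show v - P.r j + (Q.stp j hfill).b = v from sub_add_cancel _ _]⟩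
  have h0 := HermSpace.uCentres_iso hv
  rw [Setup.μ, show (Q.stp j hfill).b = P.r j from rfl, H.sub_left, H.sub_right, H.sub_right, hvj,
    H.symm (P.r j) v, hvj, P.hrr_self, map_one, h0]
  ring

theorem fill_all (hstep : ∀ (j : Fin (l + 1)), 1 ≤ j.val →
      ∀ (hfill : ∀ v ∈ P.below j.val, H.h v v = 0 → v ∈ H.uCentres Q.grp),
      ∀ a ∈ (Q.stp j hfill).W, H.h a a = (Q.stp j hfill).μ → a ∈ (Q.stp j hfill).S) :
    ∀ v, H.h v v = 0 → v ∈ H.uCentres Q.grp := by
  have h : ∀ j, j ≤ l → ∀ v ∈ P.below (j + 1), H.h v v = 0 → v ∈ H.uCentres Q.grp := by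
    intro j
    induction j with
    | zero => exact fun _ => Q.first_fill
    | succ j ih =>
      intro hj v hv hvv
      let i : Fin (l + 1) := ⟨j + 1, by omega⟩
      have hfill : ∀ v ∈ P.below i.val, H.h v v = 0 → v ∈ H.uCentres Q.grp := ih (by omega)
      refine (Q.stp i hfill).fill_of_S (hstep i (by simp [i]) hfill) v ((Q.stp i hfill).mem_W'.2
        ⟨v - H.h v (P.r i) • P.r i, fun k hk => ?_, H.h v (P.r i), (sub_add_cancel _ _).symm⟩) hvv
      rcases eq_or_ne i k with rfl | h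
      · rw [H.sub_left, H.smul_left, P.hrr_self, mul_one, sub_self]
      · rw [H.sub_left, H.smul_left, P.hrr_ne h, mul_zero, sub_zero]
        exact hv k (Nat.lt_of_le_of_ne hk fun e => h (Fin.ext e))
  exact fun v hv => h l le_rfl v (P.below_top v) hv

end Par

end Cfsg.Lib.SUTwoGen
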