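import Cfsg.Agent.Known.SUTwoGen.StepTwo
import Cfsg.Agent.Known.SUTwoGen.Core

/-! # Two generators for special unitary groups -/

set_option autoImplicit false
set_option linter.unusedSectionVars false

namespace Cfsg.Lib.SUTwoGen

open Cfsg.Lib.Classical

universe u v

variable {F : Type u} [Field F] [Finite F] {V : Type v} [AddCommGroup V] [Module F V] [FiniteDimensional F V]
  {H : HermSpace F V} {l : ℕ}

theorem exists_par_big (P : Frame H l) {x : F} (hx : H.σ x = x) (hx0 : x ≠ 0) (hx1 : x ≠ 1) :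
    Nonempty (Par P) := by
  obtain ⟨lam, hgen⟩ := IsCyclic.exists_generator (α := Fˣ)
  obtain ⟨th, hth⟩ := H.conj.exists_trace_one
  have hl0 := lam.ne_zero
  have hσ : H.σ (lam : F) ≠ 0 := (map_ne_zero _).mpr hl0
  have hq : 3 ≤ Nat.card (fixedField H.σ) := by
    classical
    have := Fintype.ofFinite (fixedField H.σ)
    rw [Nat.card_eq_fintype_card, ← Finset.card_univ]
    refine le_trans ?_ (Finset.card_le_card (Finset.subset_univ ({0, 1, ⟨x, hx⟩} : Finset (fixedField H.σ))))
    rw [Finset.card_insert_of_notMem (by simp [Subtype.ext_iff, hx0.symm]),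
      Finset.card_insert_of_notMem (by simp [Subtype.ext_iff, hx1.symm]), Finset.card_singleton]
  have hlam1 : lam ≠ 1 := by
    rintro rfl
    obtain ⟨i, hi⟩ := hgen (Units.mk0 x hx0)
    exact hx1 (by simpa using (congrArg Units.val hi).symm)
  -- the third power of `lam` is not fixed
  have hfix : (H.σ (lam : F) / lam) ^ 3 ≠ 1 := by
    intro h
    haveI : IsCyclic (normUnits H.σ).ker := Subgroup.isCyclic _
    obtain ⟨z, hz⟩ := IsCyclic.exists_generator (α := (normUnits H.σ).ker)
    obtain ⟨y, hy0, hy⟩ := H.conj.exists_div_eq (c := (z.1 : F)) (congrArg Units.val (MonoidHom.mem_ker.mp z.2))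
    obtain ⟨i, hi⟩ := hgen (Units.mk0 y hy0)
    have hσy : H.σ y ≠ 0 := (map_ne_zero _).mpr hy0
    have hz3 : (z.1 : F) ^ 3 = 1 := by
      have e : (z.1 : F) = ((H.σ (lam : F) / lam) ^ i)⁻¹ := by
        have e1 : (z.1 : F) = y / H.σ y := by rw [eq_div_iff hσy]; exact hy.symm
        have e2 : y = (lam : F) ^ i := by simpa using (congrArg Units.val hi).symm
        rw [e1, e2, map_zpow₀, div_zpow, inv_div]
      rw [e, inv_pow, ← zpow_natCast, ← zpow_mul, mul_comm, zpow_mul, zpow_natCast, h, one_zpow, inv_one]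
    have hord : orderOf z = Nat.card (fixedField H.σ) + 1 := by
      rw [orderOf_eq_card_of_forall_mem_zpowers hz, H.conj.card_norm_ker]
    have := Nat.le_of_dvd (by norm_num) (orderOf_dvd_of_pow_eq_one (x := z) (n := 3)
      (Subtype.ext (Units.ext (by simpa using hz3))))
    omega
  refine ⟨{ lam := lam, gen := hgen, μ := Fin.cons (H.σ (lam : F) / lam) fun _ => 1, th := th, hth := hth,
            hμ := fun i => ?_, hdet := ?_, hk := ?_, hk' := ?_ }⟩
  · refine Fin.cases ?_ (fun j => ?_) i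
    · rw [Fin.cons_zero, map_div₀, H.conj.invol]; field_simp
    · simp
  · rw [Fin.prod_univ_succ]
    simp only [Fin.cons_zero, Fin.cons_succ, Finset.prod_const_one, mul_one]
    field_simp
  · rw [Fin.cons_zero, map_mul, map_div₀, H.conj.invol]
    intro h
    refine hfix ?_
    rw [div_pow, div_eq_one_iff_eq (pow_ne_zero _ hl0)]
    field_simp at h
    linear_combination -h
  · cases l with
    | zero =>
      rw [show (Fin.last 0) = 0 from rfl, Fin.cons_zero]
      intro h
      have h1 : H.σ (lam : F) = lam * lam := by field_simp at h; linear_combination h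
      have h3 : lam ^ 3 = 1 := by
        refine Units.ext (mul_left_cancel₀ hl0 ?_)
        have h2 := congrArg H.σ h1
        rw [H.conj.invol, map_mul, h1] at h2
        rw [Units.val_pow_eq_pow_val, Units.val_one]
        linear_combination -h2
      have hord : orderOf lam = Nat.card (fixedField H.σ) ^ 2 - 1 := by
        rw [orderOf_eq_card_of_forall_mem_zpowers hgen, Nat.card_units, H.conj.card_eq_sq]
      have := Nat.le_of_dvd (by norm_num) (orderOf_dvd_of_pow_eq_one h3)
      have := Nat.pow_le_pow_left hq 2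
      omega
    | succ l =>
      rw [show Fin.last (l + 1) = (Fin.last l).succ from (Fin.succ_last l).symm, Fin.cons_succ, mul_one]
      exact fun h => hlam1 (Units.ext (inv_eq_one.1 h))

theorem step_big (P : Frame H l) (Q : Par P) (h3 : ∃ x : F, H.σ x = x ∧ x ≠ 0 ∧ x ≠ 1) (j : Fin (l + 1))
    (hfill : ∀ v ∈ P.below j.val, H.h v v = 0 → v ∈ H.uCentres Q.grp) :
    ∀ a ∈ (Q.stp j hfill).W, H.h a a = (Q.stp j hfill).μ → a ∈ (Q.stp j hfill).S := by
  obtain ⟨v, hv, hvW, hv1⟩ := Q.exists_seed j.val j.isLt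
  exact fun a => (Q.stp j hfill).mem_S_of_nonempty h3 (Q.stp_seed j hfill hv hvW hv1)

/-- An element generating the units of the field with four elements. -/
theorem four_facts (hF : ∀ x : F, H.σ x = x → x = 0 ∨ x = 1) {lam : Fˣ}
    (hgen : ∀ y : Fˣ, y ∈ Subgroup.zpowers lam) :
    (lam : F) + H.σ lam = 1 ∧ H.σ (lam : F) = lam + 1 ∧ (lam : F) * lam = lam + 1 := by
  have h2 := Setup.two_zero (H := H) hF
  have hN := Setup.unit_norm (H := H) hF lam.ne_zero
  have hne : lam ≠ 1 := by
    rintro rfl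
    obtain ⟨a, ha⟩ := H.conj.ne_id
    rcases eq_or_ne a 0 with rfl | h
    · exact ha (map_zero _)
    · obtain ⟨i, hi⟩ := hgen (Units.mk0 a h)
      rw [show a = 1 by simpa using (congrArg Units.val hi).symm, map_one] at ha
      exact ha rfl
  have htr : (lam : F) + H.σ lam = 1 := by
    refine (hF _ (H.conj.trace_mem _)).resolve_left fun h => hne (Units.ext ?_)
    have h1 : ((lam : F) - 1) * ((lam : F) - 1) = 0 := by
      linear_combination -hN + (lam : F) * h - (lam : F) * h2
    rw [mul_eq_zero, or_self, sub_eq_zero] at h1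
    exact h1
  have hσ : H.σ (lam : F) = lam + 1 := by linear_combination htr - (lam : F) * h2
  refine ⟨htr, hσ, ?_⟩
  rw [hσ] at hN
  linear_combination hN - (lam : F) * h2

theorem step_two (P : Frame H l) (Q : Par P) (hF : ∀ x : F, H.σ x = x → x = 0 ∨ x = 1)
    (hth : Q.th = Q.lam) (hμ : Q.μ 0 ≠ Q.lam) (j : Fin (l + 1)) (hj : 1 ≤ j.val)
    (hfill : ∀ v ∈ P.below j.val, H.h v v = 0 → v ∈ H.uCentres Q.grp) :
    ∀ a ∈ (Q.stp j hfill).W, H.h a a = (Q.stp j hfill).μ → a ∈ (Q.stp j hfill).S := by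
  classical
  obtain ⟨htr, hσ, hsq⟩ := four_facts hF Q.gen
  have h2 := Setup.two_zero (H := H) hF
  have hN : ∀ {x : F}, x ≠ 0 → x * H.σ x = 1 := Setup.unit_norm (H := H) hF
  have hm : (Q.stp j hfill).μ = 1 := (Q.stp j hfill).μ_one hF
  rcases eq_or_lt_of_le hj with hj1 | hj2
  · -- three dimensions
    obtain ⟨k, rfl⟩ : ∃ k, l = k + 1 := ⟨l - 1, by have := j.isLt; omega⟩
    obtain rfl : j = (0 : Fin (k + 1)).succ := Fin.ext (by simp [← hj1])
    have hw0 : Q.w.1.1 (P.r 0) = P.r (0 : Fin (k + 1)).succ := by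
      rw [← Q.w_r]; simp
    have hbu : Q.b.1.1 Q.u =
        (Q.lam : F) • P.e + (Q.lam : F) • P.f + (Q.lam : F) • P.r 0 + P.r (0 : Fin (k + 1)).succ := by
      rw [Par.u, map_sub, map_add, map_smul, Par.b, H.smul_mul_apply, H.smul_mul_apply, H.smul_mul_apply,
        Q.w_e, Q.w_f, hw0, Q.sieg_spec P.e, Q.sieg_spec P.f, Q.sieg_spec (P.r _), hth]
      simp only [P.hee, P.her, P.hfe, P.hfr, P.hre, P.hrr_ne (Fin.succ_ne_zero (0 : Fin (k + 1))), mul_zero,
        zero_smul, add_zero, sub_zero, mul_one]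
      match_scalars <;> first
        | ring1
        | linear_combination hsq - (Q.lam : F) * h2 + h2
        | linear_combination -(Q.lam : F) * h2
        | linear_combination (Q.lam : F) * h2
        | linear_combination hsq + h2
    have hr0W : P.r 0 ∈ (Q.stp (0 : Fin (k + 1)).succ hfill).W := P.r_mem_below (by simp)
    intro a ha hn
    refine (Q.stp (0 : Fin (k + 1)).succ hfill).mem_S_base hF hr0W (P.hrf 0) (P.hre 0) (P.hrr_self 0) ?_
      Q.t_mem Q.t_e (Q.t_r 0) (Q.t_r (0 : Fin (k + 1)).succ) (Ne.symm hμ) Q.lam.ne_zero Q.lam.ne_zero ?_ ha hn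
    · intro x hx
      have hsum : ∑ i, H.h x (P.r i) • P.r i = H.h x (P.r 0) • P.r 0 :=
        Finset.sum_eq_single 0 (fun i _ hi => by
          have h1 : ((0 : Fin (k + 1)).succ : Fin (k + 1 + 1)).val ≤ i.val := by
            have : i.val ≠ 0 := fun e => hi (Fin.ext e)
            simp only [Fin.val_succ, Fin.val_zero]
            omega
          rw [hx i h1, zero_smul]) (by simp)
      conv_lhs => rw [P.span x, hsum]
      rfl
    · have hC : Q.b.1.1 Q.u ∈ H.uCentres Q.grp := HermSpace.uCentres_map Q.u_centre Q.b_mem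
      have hs := Q.stp_seed (0 : Fin (k + 1)).succ hfill hC (fun i hi => ?_) ?_
      · convert hs using 1
        rw [hbu, add_sub_cancel_right]
        rfl
      · have h1 : i ≠ 0 := fun e => by simp [e] at hi
        have h3 : i ≠ (0 : Fin (k + 1)).succ := fun e => by simp [e] at hi
        rw [hbu]
        simp only [H.add_left, H.smul_left, P.her, P.hfr, P.hrr, if_neg (Ne.symm h1), if_neg (Ne.symm h3),
          mul_zero, add_zero]
      · simp [hbu, H.add_left, H.smul_left, P.her, P.hfr, P.hrr,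
          (Fin.succ_ne_zero (0 : Fin (k + 1))).symm]
  -- more dimensions
  obtain ⟨v, hv, hvW, hv1⟩ := Q.exists_seed j.val j.isLt
  intro a ha hn
  refine (Q.stp j hfill).mem_S_two hF ?_ (Q.stp_seed j hfill hv hvW hv1) ha hn
  intro a ha hn hne hz
  -- the part away from the plane has norm one
  have hsum : ∑ i, H.h a (P.r i) * H.σ (H.h a (P.r i)) = 1 := by
    have h := P.h_eq a a
    rw [hn, hm] at h
    rw [Setup.h_pl] at hz
    change H.h a P.f * H.σ (H.h a P.e) + H.h a P.e * H.σ (H.h a P.f) = 0 at hz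
    linear_combination -h - hz
  by_cases hex : ∃ i : Fin (l + 1), i.val < j.val ∧ H.h a (P.r i) = 0
  · obtain ⟨i, hi, hai⟩ := hex
    exact ⟨P.r i, P.r_mem_below hi, P.hrf i, P.hre i, P.hrr_self i, hai⟩
  push Not at hex
  by_cases hj3 : j.val = 2
  · -- two non-zero norms sum to zero
    exfalso
    obtain ⟨k, rfl⟩ : ∃ k, l = k + 2 := ⟨l - 2, by have := j.isLt; omega⟩
    have h0 := hN (hex 0 (by rw [Fin.val_zero]; omega))
    have h1 := hN (hex 1 (by rw [Fin.val_one]; omega))
    have hrest : ∑ i : Fin (k + 1), H.h a (P.r i.succ.succ) * H.σ (H.h a (P.r i.succ.succ)) = 0 :=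
      Finset.sum_eq_zero fun i _ => by rw [ha i.succ.succ (by simp; omega), zero_mul]
    rw [Fin.sum_univ_succ, Fin.sum_univ_succ, hrest, show (Fin.succ 0 : Fin (k + 2 + 1)) = 1 from rfl, h0, h1,
      add_zero, h2] at hsum
    exact zero_ne_one hsum
  obtain ⟨k, rfl⟩ : ∃ k, l = k + 2 := ⟨l - 2, by have := j.isLt; omega⟩
  let i0 : Fin (k + 2 + 1) := ⟨0, by omega⟩
  let i1 : Fin (k + 2 + 1) := ⟨1, by omega⟩
  let i2 : Fin (k + 2 + 1) := ⟨2, by omega⟩
  have hi0 : i0.val < j.val := by simp only [i0]; omega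
  have hi1 : i1.val < j.val := by simp only [i1]; omega
  have hi2 : i2.val < j.val := by simp only [i2]; omega
  set c0 := H.h a (P.r i0)
  set c1 := H.h a (P.r i1)
  set c2 := H.h a (P.r i2)
  set L : F := (Q.lam : F)
  have hc0 : c0 ≠ 0 := hex i0 hi0
  have hc1 : c1 ≠ 0 := hex i1 hi1
  have hc2 : c2 ≠ 0 := hex i2 hi2
  have hL : L ≠ 0 := Q.lam.ne_zero
  have hL1 : L + 1 ≠ 0 := fun e => by rw [← hσ, map_eq_zero] at e; exact hL e
  refine ⟨H.σ (1 / c0) • P.r i0 + H.σ (L / c1) • P.r i1 + H.σ ((L + 1) / c2) • P.r i2,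
    Submodule.add_mem _ (Submodule.add_mem _ (Submodule.smul_mem _ _ (P.r_mem_below hi0))
      (Submodule.smul_mem _ _ (P.r_mem_below hi1))) (Submodule.smul_mem _ _ (P.r_mem_below hi2)),
    ?_, ?_, ?_, ?_⟩
  · simp [Setup.cx, Par.stp, H.add_left, H.smul_left, P.hrf]
  · simp [Setup.cy, Par.stp, H.add_left, H.smul_left, P.hre]
  · have d01 : i0 ≠ i1 := Fin.ne_of_val_ne (by simp [i0, i1])
    have d02 : i0 ≠ i2 := Fin.ne_of_val_ne (by simp [i0, i2])
    have d12 : i1 ≠ i2 := Fin.ne_of_val_ne (by simp [i1, i2])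
    have n0 := hN (x := H.σ (1 / c0)) ((map_ne_zero _).mpr (div_ne_zero one_ne_zero hc0))
    have n1 := hN (x := H.σ (L / c1)) ((map_ne_zero _).mpr (div_ne_zero hL hc1))
    have n2 := hN (x := H.σ ((L + 1) / c2)) ((map_ne_zero _).mpr (div_ne_zero hL1 hc2))
    simp only [H.add_left, H.add_right, H.smul_left, H.smul_right, P.hrr, if_neg d01, if_neg d02, if_neg d12,
      if_neg d01.symm, if_neg d02.symm, if_neg d12.symm, if_true, mul_one, mul_zero, add_zero, zero_add,
      n0, n1, n2]
    linear_combination h2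
  · simp only [H.add_right, H.smul_right, H.conj.invol]
    rw [show H.h a (P.r i0) = c0 from rfl, show H.h a (P.r i1) = c1 from rfl,
      show H.h a (P.r i2) = c2 from rfl, div_mul_cancel₀ _ hc0, div_mul_cancel₀ _ hc1, div_mul_cancel₀ _ hc2]
    linear_combination (L + 1) * h2

theorem exists_par_two (P : Frame H l) (hl : 1 ≤ l) (hF : ∀ x : F, H.σ x = x → x = 0 ∨ x = 1) :
    ∃ Q : Par P, Q.th = Q.lam ∧ Q.μ 0 ≠ Q.lam := by
  obtain ⟨lam, hgen⟩ := IsCyclic.exists_generator (α := Fˣ)
  obtain ⟨htr, hσ, hsq⟩ := four_facts hF hgen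
  have h2 := Setup.two_zero (H := H) hF
  have hl0 := lam.ne_zero
  have hσ0 : H.σ (lam : F) ≠ 0 := (map_ne_zero _).mpr hl0
  have hinv : (H.σ (lam : F))⁻¹ = lam := inv_eq_of_mul_eq_one_left (Setup.unit_norm (H := H) hF hl0)
  have hlσ : (lam : F) ≠ lam + 1 := fun e => one_ne_zero (by linear_combination -e)
  have hl1 : (lam : F) ≠ 1 := fun e => by
    rw [e, map_one, h2] at htr; exact zero_ne_one htr
  obtain ⟨k, rfl⟩ : ∃ k, l = k + 1 := ⟨l - 1, by omega⟩
  cases k with
  | zero =>
    refine ⟨{ lam := lam, gen := hgen, μ := fun _ => (lam : F) + 1, th := lam, hth := htr,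
              hμ := fun i => ?_, hdet := ?_, hk := ?_, hk' := ?_ }, rfl, hlσ.symm⟩
    · rw [← hσ, H.conj.invol, mul_comm]; exact Setup.unit_norm (H := H) hF hl0
    · rw [Fin.prod_univ_two, hinv]
      linear_combination ((lam : F) * lam + 3 * lam + 1) * hsq + (2 * (lam : F) * lam + 2 * lam) * h2
    · rw [map_mul, map_add, map_one, H.conj.invol, hσ]
      intro e
      exact hlσ (by linear_combination e)
    · intro e
      rw [← div_eq_inv_mul, div_eq_one_iff_eq hl0] at e
      exact hlσ e.symm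
  | succ k =>
    refine ⟨{ lam := lam, gen := hgen, μ := Fin.cons 1 (Fin.cons (lam : F) fun _ => 1), th := lam, hth := htr,
              hμ := fun i => ?_, hdet := ?_, hk := ?_, hk' := ?_ }, rfl, fun e => hl1 e.symm⟩
    · refine Fin.cases ?_ (fun j => Fin.cases ?_ (fun i => ?_) j) i
      · simp
      · simpa using Setup.unit_norm (H := H) hF hl0
      · simp
    · rw [Fin.prod_univ_succ, Fin.prod_univ_succ, hinv]
      simp only [Fin.cons_zero, Fin.cons_succ, Finset.prod_const_one, mul_one, one_mul]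
      linear_combination ((lam : F) + 1) * hsq + (lam : F) * h2
    · rw [Fin.cons_zero, mul_one, H.conj.invol, hσ]
      exact hlσ
    · rw [show Fin.last (k + 1 + 1) = (Fin.last k).succ.succ by simp, Fin.cons_succ, Fin.cons_succ, mul_one]
      exact fun e => hl1 (inv_eq_one.1 e)

/-- Apart from three dimensions over the field with four elements two elements generate. -/
theorem two_gen (P : Frame H l) (h : l = 0 → ∃ x : F, H.σ x = x ∧ x ≠ 0 ∧ x ≠ 1) :
    ∃ a b : H.SIsom, Subgroup.closure ({a, b} : Set H.SIsom) = ⊤ := by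
  by_cases h3 : ∃ x : F, H.σ x = x ∧ x ≠ 0 ∧ x ≠ 1
  · obtain ⟨x, hx, hx0, hx1⟩ := h3
    obtain ⟨Q⟩ := exists_par_big P hx hx0 hx1
    have hq : 3 ≤ H.q := by
      classical
      have := Fintype.ofFinite (fixedField H.σ)
      rw [HermSpace.q, Nat.card_eq_fintype_card, ← Finset.card_univ]
      refine le_trans ?_
        (Finset.card_le_card (Finset.subset_univ ({0, 1, ⟨x, hx⟩} : Finset (fixedField H.σ))))
      rw [Finset.card_insert_of_notMem (by simp [Subtype.ext_iff, hx0.symm]),
        Finset.card_insert_of_notMem (by simp [Subtype.ext_iff, hx1.symm]), Finset.card_singleton]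
    refine ⟨Q.t, Q.b, HermSpace.eq_top_of_uCentres (H := H) ?_ (Q.fill_all fun j _ hfill =>
      step_big P Q ⟨x, hx, hx0, hx1⟩ j hfill)⟩
    rw [P.finrank_eq]
    omega
  · have hl : 1 ≤ l := Nat.one_le_iff_ne_zero.2 fun e => h3 (h e)
    push Not at h3
    have hF : ∀ x : F, H.σ x = x → x = 0 ∨ x = 1 := fun x hx => or_iff_not_imp_left.2 (h3 x hx)
    obtain ⟨Q, h1, h2⟩ := exists_par_two P hl hF
    refine ⟨Q.t, Q.b, HermSpace.eq_top_of_uCentres (H := H) ?_ (Q.fill_all fun j hj hfill =>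
      step_two P Q hF h1 h2 j hj hfill)⟩
    rw [P.finrank_eq]
    omega

end Cfsg.Lib.SUTwoGen
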