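import Cfsg.Agent.Classical.Unitary.Maximal

/-!
# Growing a set of transvection centres by one anisotropic direction

If every isotropic vector of a subspace `W` containing a hyperbolic pair is a centre, then the
vectors `a + b`, `a ∈ W`, for a fixed `b ⊥ W` form few classes under the centres of `W`.
-/

set_option autoImplicit false
set_option linter.unusedSectionVars false

namespace Cfsg.Lib.SUTwoGen

open Cfsg.Lib.Classical

universe u v

variable {F : Type u} [Field F] {V : Type v} [AddCommGroup V] [Module F V]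

/-- The data of one step. -/
structure Setup (H : HermSpace F V) (K : Subgroup H.SIsom) where
  /-- the subspace already filled -/
  W : Submodule F V
  /-- first vector of the hyperbolic pair -/
  e : V
  /-- second vector of the hyperbolic pair -/
  f : V
  /-- the new direction -/
  b : V
  he : e ∈ W
  hf : f ∈ W
  hee : H.h e e = 0
  hff : H.h f f = 0
  hef : H.h e f = 1
  hb : ∀ w ∈ W, H.h w b = 0
  hbb : H.h b b ≠ 0
  hW : ∀ w ∈ W, H.h w w = 0 → w ∈ H.uCentres K

namespace Setup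

variable {H : HermSpace F V} {K : Subgroup H.SIsom} (X : Setup H K)

/-- The norm of the part in `W` of an isotropic `a + b`. -/
def μ : F := -H.h X.b X.b

theorem μ_fix : H.σ X.μ = X.μ := by rw [μ, map_neg, H.self_fixed]

theorem μ_ne : X.μ ≠ 0 := neg_ne_zero.2 X.hbb

theorem hfe : H.h X.f X.e = 1 := by rw [H.symm, X.hef, map_one]

theorem hb' {w : V} (hw : w ∈ X.W) : H.h X.b w = 0 := H.eq_zero_symm (X.hb w hw)

/-- The vectors `a` of `W` with `a + b` a centre. -/
def S : Set V := {a | a ∈ X.W ∧ H.h a a = X.μ ∧ a + X.b ∈ H.uCentres K}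

theorem iso_add {a : V} (ha : a ∈ X.W) (hn : H.h a a = X.μ) : H.h (a + X.b) (a + X.b) = 0 := by
  rw [H.add_left, H.add_right, H.add_right, hn, X.hb a ha, X.hb' ha, μ]
  ring

theorem move {a a' : V} (ha : a ∈ X.S) (ha' : a' ∈ X.W) (hn : H.h a' a' = X.μ)
    (hd : H.h (a' - a) (a' - a) = 0) (hne : H.h a (a' - a) ≠ 0) : a' ∈ X.S := by
  refine ⟨ha', hn, ?_⟩
  have hmem := X.W.sub_mem ha' ha.1
  have e : a' + X.b = (1 : F) • (a + X.b) + (1 : F) • (a' - a) := by
    rw [one_smul, one_smul]; abel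
  rw [e]
  refine HermSpace.uCentres_span ha.2.2 (X.hW _ hmem hd) ?_ ?_
  · rwa [H.add_left, X.hb' hmem, add_zero]
  · rw [← e]; exact X.iso_add ha' hn

/-- The vector of the plane with given coordinates. -/
def pl (x y : F) : V := x • X.e + y • X.f

theorem pl_mem (x y : F) : X.pl x y ∈ X.W := X.W.add_mem (X.W.smul_mem _ X.he) (X.W.smul_mem _ X.hf)

theorem h_pl (x y x' y' : F) : H.h (X.pl x y) (X.pl x' y') = x * H.σ y' + y * H.σ x' := by
  simp only [pl, H.add_left, H.add_right, H.smul_left, H.smul_right, X.hee, X.hff, X.hef, X.hfe]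
  ring

theorem pl_sub (x y x' y' : F) : X.pl x y - X.pl x' y' = X.pl (x - x') (y - y') := by
  simp only [pl, sub_smul]; abel

theorem pl_step_fst {x y c : F} (hc : c + H.σ c = 0) (h : X.pl x y ∈ X.S) : X.pl (x + c * y) y ∈ X.S := by
  rcases eq_or_ne c 0 with rfl | hc0
  · simpa using h
  have hn := h.2.1
  rw [h_pl] at hn
  have hy : y ≠ 0 := fun e => X.μ_ne (by rw [← hn, e]; simp)
  have hn' : H.h (X.pl (x + c * y) y) (X.pl (x + c * y) y) = X.μ := by
    rw [h_pl, map_add, map_mul]; linear_combination hn + (y * H.σ y) * hc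
  refine X.move h (X.pl_mem _ _) hn' ?_ ?_
  · rw [pl_sub, h_pl]; simp
  · rw [pl_sub, h_pl]
    simp [hy, hc0]

theorem pl_step_snd {x y c : F} (hc : c + H.σ c = 0) (h : X.pl x y ∈ X.S) : X.pl x (y + c * x) ∈ X.S := by
  rcases eq_or_ne c 0 with rfl | hc0
  · simpa using h
  have hn := h.2.1
  rw [h_pl] at hn
  have hx : x ≠ 0 := fun e => X.μ_ne (by rw [← hn, e]; simp)
  have hn' : H.h (X.pl x (y + c * x)) (X.pl x (y + c * x)) = X.μ := by
    rw [h_pl, map_add, map_mul]; linear_combination hn + (x * H.σ x) * hc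
  refine X.move h (X.pl_mem _ _) hn' ?_ ?_
  · rw [pl_sub, h_pl]; simp
  · rw [pl_sub, h_pl]
    simp [hx, hc0]

/-- Any two plane vectors of norm `μ` are connected. -/
theorem pl_conn {x y x' y' : F} (h : X.pl x y ∈ X.S) (h' : x' * H.σ y' + y' * H.σ x' = X.μ) :
    X.pl x' y' ∈ X.S := by
  obtain ⟨d, hd0, hd⟩ := H.conj.exists_skew
  have hσ : ∀ z, H.σ (H.σ z) = z := H.conj.invol
  -- with a non-zero skew coefficient three moves reach the target
  have core : ∀ x y α β : F, X.pl x y ∈ X.S → H.σ α = α → β + H.σ β = 0 → β ≠ 0 →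
      x' = α * x + β * y → X.pl x' y' ∈ X.S := by
    intro x y α β h hα hβ hβ0 e
    have hs : (α - 1) / β + H.σ ((α - 1) / β) = 0 := by
      rw [map_div₀, map_sub, map_one, hα, eq_neg_of_add_eq_zero_right hβ, div_neg, add_neg_cancel]
    have h1 := X.pl_step_fst hβ (X.pl_step_snd hs h)
    rw [show x + β * (y + (α - 1) / β * x) = x' by rw [e]; field_simp; ring] at h1
    set y1 := y + (α - 1) / β * x
    have hn := h1.2.1
    rw [h_pl] at hn
    have hx' : x' ≠ 0 := fun e => X.μ_ne (by rw [← hn, e]; simp)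
    have hσx' : H.σ x' ≠ 0 := (map_ne_zero _).mpr hx'
    have hc : (y' - y1) / x' + H.σ ((y' - y1) / x') = 0 := by
      rw [map_div₀, map_sub]
      field_simp
      linear_combination h' - hn
    have h2 := X.pl_step_snd hc h1
    rwa [show y1 + (y' - y1) / x' * x' = y' by field_simp; ring] at h2
  have hx'0 : x' ≠ 0 := fun e => X.μ_ne (by rw [← h', e]; simp)
  have hn := h.2.1
  rw [h_pl] at hn
  have hy : y ≠ 0 := fun e => X.μ_ne (by rw [← hn, e]; simp)
  have hσy : H.σ y ≠ 0 := (map_ne_zero _).mpr hy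
  have hμ := X.μ_fix
  have hμ0 := X.μ_ne
  set α : F := (x' * H.σ y + y * H.σ x') / X.μ with hαdef
  have hA : α * X.μ = x' * H.σ y + y * H.σ x' := div_mul_cancel₀ _ hμ0
  have hαfix : H.σ α = α := by
    rw [hαdef, map_div₀, map_add, map_mul, map_mul, hσ, hσ, hμ]; ring
  set β : F := (x' - α * x) / y with hβdef
  have hβ : β + H.σ β = 0 := by
    rw [hβdef, map_div₀, map_sub, map_mul, hαfix]
    field_simp
    linear_combination -hA - α * hn
  have hx'e : x' = α * x + β * y := by rw [hβdef]; field_simp; ring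
  by_cases hβ0 : β = 0
  · have hα0 : α ≠ 0 := fun e => hx'0 (by rw [hx'e, e, hβ0]; ring)
    refine core (x + d * y) y α (-(α * d)) (X.pl_step_fst hd h) hαfix ?_ (by simp [hα0, hd0]) ?_
    · rw [map_neg, map_mul, hαfix]; linear_combination -α * hd
    · rw [hx'e, hβ0]; ring
  · exact core x y α β h hαfix hβ hβ0 hx'e

/-- A move can be undone. -/
theorem move_back {a a' : V} (ha' : a' ∈ X.S) (ha : a ∈ X.W) (hn : H.h a a = X.μ)
    (hd : H.h (a' - a) (a' - a) = 0) (hne : H.h a (a' - a) ≠ 0) : a ∈ X.S := by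
  refine X.move ha' ha hn ?_ ?_
  · rw [show a - a' = -(a' - a) by abel, H.neg_left, H.neg_right, hd, neg_zero, neg_zero]
  · rw [show a - a' = -(a' - a) by abel, H.neg_right, neg_ne_zero]
    have e : H.h a' (a' - a) = H.h a (a' - a) + H.h (a' - a) (a' - a) := by
      rw [← H.add_left]; congr 1; abel
    rwa [e, hd, add_zero]

/-- The first coordinate of a vector. -/
def cx (a : V) : F := H.h a X.f

/-- The second coordinate of a vector. -/
def cy (a : V) : F := H.h a X.e

theorem h_split (a : V) (x y : F) : H.h a (X.pl x y) = X.cx a * H.σ y + X.cy a * H.σ x := by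
  simp only [pl, cx, cy, H.add_right, H.smul_right]; ring

theorem cx_pl (x y : F) : X.cx (X.pl x y) = x := by
  simp [cx, pl, H.add_left, H.smul_left, X.hef, X.hff]

theorem cy_pl (x y : F) : X.cy (X.pl x y) = y := by
  simp [cy, pl, H.add_left, H.smul_left, X.hee, X.hfe]

/-- A vector whose plane part is non-zero moves into the plane. -/
theorem exists_plane_move [Finite F] {a : V} (hne : X.cx a ≠ 0 ∨ X.cy a ≠ 0) {s : F} (hs : s + H.σ s = 0)
    (hη : H.h (X.pl (X.cx a) (X.cy a)) (X.pl (X.cx a) (X.cy a)) = 0 → X.μ + s ≠ 0) :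
    ∃ x y : F, H.h (X.pl x y) (X.pl x y) = X.μ ∧ H.h a (X.pl x y) = X.μ + s := by
  set η := X.μ + s with hηdef
  have hσ : ∀ z, H.σ (H.σ z) = z := H.conj.invol
  set z := X.pl (X.cx a) (X.cy a) with hz
  have hzz : ∀ x y, H.h z (X.pl x y) = H.h a (X.pl x y) := fun x y => by
    rw [h_split, h_split, cx_pl, cy_pl]
  set ν := H.h z z with hν
  by_cases hν0 : ν = 0
  · replace hη := hη hν0
    obtain ⟨p, q, hp, hρ⟩ : ∃ p q : F, H.h (X.pl p q) (X.pl p q) = 0 ∧ H.h z (X.pl p q) ≠ 0 := by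
      rcases hne with h | h
      · exact ⟨0, 1, by rw [h_pl]; simp, by rw [hzz, h_split]; simpa using h⟩
      · exact ⟨1, 0, by rw [h_pl]; simp, by rw [hzz, h_split]; simpa using h⟩
    obtain ⟨θ, hθ⟩ := H.conj.exists_trace_one
    set α : F := θ * X.μ / η
    set γ : F := H.σ (η / H.h z (X.pl p q))
    refine ⟨α * X.cx a + γ * p, α * X.cy a + γ * q, ?_, ?_⟩
    all_goals
      have e : X.pl (α * X.cx a + γ * p) (α * X.cy a + γ * q) = α • z + γ • X.pl p q := by
        simp only [hz, pl, smul_add, smul_smul, add_smul]; abel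
    · rw [e, H.add_left, H.add_right, H.add_right, H.smul_left, H.smul_left, H.smul_left, H.smul_left,
        H.smul_right, H.smul_right, H.smul_right, H.smul_right, ← hν, hν0, hp, H.symm (X.pl p q) z]
      simp only [α, γ, map_div₀, map_mul, hσ, X.μ_fix]
      have : H.σ (H.h z (X.pl p q)) ≠ 0 := (map_ne_zero _).mpr hρ
      have : H.σ η ≠ 0 := (map_ne_zero _).mpr hη
      field_simp
      linear_combination X.μ * (H.h z (X.pl p q) * η * H.σ η * H.σ (H.h z (X.pl p q))) * hθ
    · rw [← hzz, e, H.add_right, H.smul_right, H.smul_right, ← hν, hν0]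
      simp only [α, γ, map_div₀, hσ]
      field_simp
      ring
  · obtain ⟨γ, hγ⟩ := H.conj.norm_surjective
      (a := H.σ (η / ν) * H.σ (H.σ (η / ν)) - X.μ / ν) (by
        rw [map_sub, map_div₀ _ X.μ, X.μ_fix, H.conj.norm_mem, hν, H.self_fixed])
    set p := H.σ (X.cx a)
    set q := -H.σ (X.cy a)
    refine ⟨H.σ (η / ν) * X.cx a + γ * p, H.σ (η / ν) * X.cy a + γ * q, ?_, ?_⟩
    all_goals
      have e : X.pl (H.σ (η / ν) * X.cx a + γ * p) (H.σ (η / ν) * X.cy a + γ * q) =
          H.σ (η / ν) • z + γ • X.pl p q := by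
        simp only [hz, pl, smul_add, smul_smul, add_smul]; abel
      have hzp : H.h z (X.pl p q) = 0 := by
        rw [hz, h_pl]; simp [p, q, hσ]; ring
      have hpp : H.h (X.pl p q) (X.pl p q) = -ν := by
        rw [hν, hz, h_pl, h_pl]; simp [p, q, hσ]; ring
    · rw [e, H.add_left, H.add_right, H.add_right, H.smul_left, H.smul_left, H.smul_left, H.smul_left,
        H.smul_right, H.smul_right, H.smul_right, H.smul_right, ← hν, hpp, hzp, H.eq_zero_symm hzp]
      have hμν : X.μ / ν * ν = X.μ := div_mul_cancel₀ _ hν0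
      linear_combination hμν - ν * hγ
    · rw [← hzz, e, H.add_right, H.smul_right, H.smul_right, ← hν, hzp, hσ, mul_zero, add_zero,
        div_mul_cancel₀ _ hν0]

/-- Over more than four elements all vectors of norm `μ` are one class. -/
theorem mem_S_of_nonempty [Finite F] (h3 : ∃ x : F, H.σ x = x ∧ x ≠ 0 ∧ x ≠ 1) {a₀ : V} (h₀ : a₀ ∈ X.S)
    {a : V} (ha : a ∈ X.W) (hn : H.h a a = X.μ) : a ∈ X.S := by
  obtain ⟨d, hd0, hd⟩ := H.conj.exists_skew
  obtain ⟨s, hs0, hs, hη⟩ : ∃ s : F, s ≠ 0 ∧ s + H.σ s = 0 ∧ X.μ + s ≠ 0 := by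
    obtain ⟨x, hx, hx0, hx1⟩ := h3
    by_cases h : X.μ + d = 0
    · refine ⟨x * d, mul_ne_zero hx0 hd0, by rw [map_mul, hx]; linear_combination x * hd, fun h' => ?_⟩
      have : (x - 1) * d = 0 := by linear_combination h' - h
      rcases mul_eq_zero.1 this with e | e
      · exact hx1 (sub_eq_zero.1 e)
      · exact hd0 e
    · exact ⟨d, hd0, hd, h⟩
  -- every vector is linked to a plane vector
  have link : ∀ a : V, a ∈ X.W → H.h a a = X.μ →
      ∃ x y, H.h (X.pl x y) (X.pl x y) = X.μ ∧ (X.pl x y ∈ X.S ↔ a ∈ X.S) := by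
    intro a ha hn
    have hcase : ∀ a : V, a ∈ X.W → H.h a a = X.μ → (X.cx a ≠ 0 ∨ X.cy a ≠ 0) →
        ∃ x y, H.h (X.pl x y) (X.pl x y) = X.μ ∧ (X.pl x y ∈ X.S ↔ a ∈ X.S) := by
      intro a ha hn hne
      obtain ⟨x, y, h1, h2⟩ := X.exists_plane_move hne hs fun _ => hη
      have hd1 : H.h (X.pl x y - a) (X.pl x y - a) = 0 := by
        rw [H.sub_left, H.sub_right, H.sub_right, h1, hn, H.symm (X.pl x y) a, h2, map_add, X.μ_fix]
        linear_combination -hs
      have hd2 : H.h a (X.pl x y - a) ≠ 0 := by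
        rw [H.sub_right, h2, hn, add_sub_cancel_left]; exact hs0
      exact ⟨x, y, h1, fun h => X.move_back h ha hn hd1 hd2, fun h => X.move h (X.pl_mem x y) h1 hd1 hd2⟩
    by_cases hz : X.cx a ≠ 0 ∨ X.cy a ≠ 0
    · exact hcase a ha hn hz
    push Not at hz
    obtain ⟨θ, hθ⟩ := H.conj.exists_trace_one
    set D := a + X.pl (-(θ * X.μ)) 1 with hD
    have hap : H.h a (X.pl (-(θ * X.μ)) 1) = 0 := by rw [h_split, hz.1, hz.2]; ring
    have hDD : H.h D D = 0 := by
      rw [hD, H.add_left, H.add_right, H.add_right, hap, H.eq_zero_symm hap, hn, h_pl, map_neg, map_mul,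
        map_one, X.μ_fix]
      linear_combination -X.μ * hθ
    have haD : H.h a D = X.μ := by rw [hD, H.add_right, hap, hn, add_zero]
    set a' := a + (d * X.μ) • D with ha'
    have ha'W : a' ∈ X.W :=
      X.W.add_mem ha (X.W.smul_mem _ (X.W.add_mem ha (X.pl_mem _ _)))
    have ha'n : H.h a' a' = X.μ := by
      rw [ha', H.add_left, H.add_right, H.add_right, H.smul_left, H.smul_left, H.smul_right, H.smul_right,
        hDD, H.symm D a, haD, hn, map_mul, X.μ_fix]
      linear_combination X.μ * X.μ * hd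
    have hd1 : H.h (a' - a) (a' - a) = 0 := by
      rw [ha', add_sub_cancel_left, H.smul_left, H.smul_right, hDD, mul_zero, mul_zero]
    have hd2 : H.h a (a' - a) ≠ 0 := by
      rw [ha', add_sub_cancel_left, H.smul_right, haD]
      exact mul_ne_zero ((map_ne_zero _).mpr (mul_ne_zero hd0 X.μ_ne)) X.μ_ne
    have hne' : X.cy a' ≠ 0 := by
      have h1 : X.cy a = 0 := hz.2
      simp only [cy] at h1 ⊢
      rw [ha', hD, H.add_left, H.smul_left, H.add_left, h1, show H.h (X.pl (-(θ * X.μ)) 1) X.e = 1 from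
        X.cy_pl _ _]
      simpa using mul_ne_zero hd0 X.μ_ne
    obtain ⟨x, y, h1, h2⟩ := hcase a' ha'W ha'n (Or.inr hne')
    exact ⟨x, y, h1, h2.trans ⟨fun h => X.move_back h ha hn hd1 hd2, fun h => X.move h ha'W ha'n hd1 hd2⟩⟩
  obtain ⟨x, y, hxy, hiff⟩ := link a ha hn
  obtain ⟨x₀, y₀, -, hiff₀⟩ := link a₀ h₀.1 h₀.2.1
  rw [h_pl] at hxy
  exact hiff.1 (X.pl_conn (hiff₀.2 h₀) hxy)

/-- The enlarged subspace. -/
def W' : Submodule F V := X.W ⊔ Submodule.span F {X.b}

theorem mem_W' {v : V} : v ∈ X.W' ↔ ∃ a ∈ X.W, ∃ c : F, v = a + c • X.b := by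
  rw [W', Submodule.mem_sup]
  constructor
  · rintro ⟨a, ha, w, hw, rfl⟩
    obtain ⟨c, rfl⟩ := Submodule.mem_span_singleton.1 hw
    exact ⟨a, ha, c, rfl⟩
  · rintro ⟨a, ha, c, rfl⟩
    exact ⟨a, ha, _, Submodule.smul_mem _ c (Submodule.mem_span_singleton_self _), rfl⟩

/-- The step: the enlarged subspace is filled as soon as `S` is everything. -/
theorem fill_of_S (hS : ∀ a ∈ X.W, H.h a a = X.μ → a ∈ X.S) :
    ∀ v ∈ X.W', H.h v v = 0 → v ∈ H.uCentres K := by
  intro v hv hvv
  obtain ⟨a, ha, c, rfl⟩ := X.mem_W'.1 hv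
  rcases eq_or_ne c 0 with rfl | hc
  · rw [zero_smul, add_zero] at hvv ⊢
    exact X.hW a ha hvv
  have e : a + c • X.b = c • (c⁻¹ • a + X.b) := by rw [smul_add, smul_smul, mul_inv_cancel₀ hc, one_smul]
  rw [e] at hvv ⊢
  refine HermSpace.uCentres_smul (hS _ (X.W.smul_mem _ ha) ?_).2.2 c
  rw [H.smul_left, H.smul_right] at hvv
  simp only [mul_eq_zero, hc, (map_ne_zero H.σ).mpr hc, false_or] at hvv
  rw [H.add_left, H.add_right, H.add_right, H.smul_left _ a X.b, H.smul_right _ X.b a, X.hb a ha,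
    X.hb' ha] at hvv
  rw [μ]
  linear_combination hvv

end Setup

end Cfsg.Lib.SUTwoGen
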