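import Cfsg.Agent.Known.SUTwoGen.Step

/-! # The step over the field with four elements -/

set_option autoImplicit false
set_option linter.unusedSectionVars false

namespace Cfsg.Lib.SUTwoGen

open Cfsg.Lib.Classical

universe u v

variable {F : Type u} [Field F] [Finite F] {V : Type v} [AddCommGroup V] [Module F V]
  {H : HermSpace F V} {K : Subgroup H.SIsom}

namespace Setup

variable (X : Setup H K) (hF : ∀ x : F, H.σ x = x → x = 0 ∨ x = 1)

include hF in
theorem two_zero : (1 : F) + 1 = 0 :=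
  (hF _ (by rw [map_add, map_one])).resolve_right fun h => one_ne_zero (by linear_combination h)

include hF in
theorem μ_one : X.μ = 1 := (hF _ X.μ_fix).resolve_left X.μ_ne

include hF in
theorem unit_norm {x : F} (hx : x ≠ 0) : x * H.σ x = 1 :=
  (hF _ (H.conj.norm_mem x)).resolve_left (mul_ne_zero hx ((map_ne_zero _).mpr hx))

include hF in
theorem link_plane {a : V} (ha : a ∈ X.W) (hn : H.h a a = X.μ)
    (hz : (X.cx a = 0 ∧ X.cy a = 0) ∨ H.h (X.pl (X.cx a) (X.cy a)) (X.pl (X.cx a) (X.cy a)) ≠ 0) :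
    ∃ x y, H.h (X.pl x y) (X.pl x y) = X.μ ∧ (X.pl x y ∈ X.S ↔ a ∈ X.S) := by
  have h2 := two_zero (H := H) hF
  have hμ := X.μ_one hF
  have hone : (1 : F) + H.σ 1 = 0 := by rw [map_one, h2]
  have hmain : ∀ a : V, a ∈ X.W → H.h a a = X.μ →
      H.h (X.pl (X.cx a) (X.cy a)) (X.pl (X.cx a) (X.cy a)) ≠ 0 →
      ∃ x y, H.h (X.pl x y) (X.pl x y) = X.μ ∧ (X.pl x y ∈ X.S ↔ a ∈ X.S) := by
    intro a ha hn hν
    have hne : X.cx a ≠ 0 ∨ X.cy a ≠ 0 := by
      by_contra h
      push Not at h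
      rw [h.1, h.2] at hν
      exact hν (by rw [h_pl]; simp)
    obtain ⟨x, y, e1, e2⟩ := X.exists_plane_move hne hone fun h => absurd h hν
    have hd1 : H.h (X.pl x y - a) (X.pl x y - a) = 0 := by
      rw [H.sub_left, H.sub_right, H.sub_right, e1, hn, H.symm (X.pl x y) a, e2, map_add, X.μ_fix]
      linear_combination -hone
    have hd2 : H.h a (X.pl x y - a) ≠ 0 := by
      rw [H.sub_right, e2, hn, add_sub_cancel_left]; exact one_ne_zero
    exact ⟨x, y, e1, fun h => X.move_back h ha hn hd1 hd2, fun h => X.move h (X.pl_mem x y) e1 hd1 hd2⟩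
  rcases hz with ⟨hx, hy⟩ | hν
  · obtain ⟨θ, hθ⟩ := H.conj.exists_trace_one
    set D := a + X.pl θ 1 with hD
    have hap : H.h a (X.pl θ 1) = 0 := by rw [h_split, hx, hy]; ring
    have hDD : H.h D D = 0 := by
      rw [hD, H.add_left, H.add_right, H.add_right, hap, H.eq_zero_symm hap, hn, h_pl, hμ, map_one]
      linear_combination hθ + h2
    have haD : H.h a D = 1 := by rw [hD, H.add_right, hap, hn, add_zero, hμ]
    have hDW : D ∈ X.W := X.W.add_mem ha (X.pl_mem _ _)
    have ha'W : a + D ∈ X.W := X.W.add_mem ha hDW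
    have ha'n : H.h (a + D) (a + D) = X.μ := by
      rw [H.add_left a D, H.add_right a a D, H.add_right D a D, hn, hDD, H.symm D a, haD, map_one]
      linear_combination h2
    have hd1 : H.h (a + D - a) (a + D - a) = 0 := by rw [add_sub_cancel_left]; exact hDD
    have hd2 : H.h a (a + D - a) ≠ 0 := by rw [add_sub_cancel_left, haD]; exact one_ne_zero
    have e : a + D = X.pl θ 1 := by
      rw [hD, ← add_assoc, show a + a = ((1 : F) + 1) • a by rw [add_smul, one_smul], h2, zero_smul, zero_add]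
    exact ⟨θ, 1, e ▸ ha'n, e ▸ ⟨fun h => X.move_back h ha hn hd1 hd2, fun h => X.move h ha'W ha'n hd1 hd2⟩⟩
  · exact hmain a ha hn hν

include hF in
/-- With a second direction orthogonal to the plane all vectors of norm `μ` are one class. -/
theorem mem_S_two
    (hr : ∀ a ∈ X.W, H.h a a = X.μ → (X.cx a ≠ 0 ∨ X.cy a ≠ 0) →
      H.h (X.pl (X.cx a) (X.cy a)) (X.pl (X.cx a) (X.cy a)) = 0 →
      ∃ r ∈ X.W, X.cx r = 0 ∧ X.cy r = 0 ∧ H.h r r = 1 ∧ H.h a r = 0)
    {a₀ : V} (h₀ : a₀ ∈ X.S) {a : V} (ha : a ∈ X.W) (hn : H.h a a = X.μ) : a ∈ X.S := by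
  have h2 := two_zero (H := H) hF
  have hμ := X.μ_one hF
  have link : ∀ a : V, a ∈ X.W → H.h a a = X.μ →
      ∃ x y, H.h (X.pl x y) (X.pl x y) = X.μ ∧ (X.pl x y ∈ X.S ↔ a ∈ X.S) := by
    intro a ha hn
    by_cases hz : (X.cx a = 0 ∧ X.cy a = 0) ∨ H.h (X.pl (X.cx a) (X.cy a)) (X.pl (X.cx a) (X.cy a)) ≠ 0
    · exact X.link_plane hF ha hn hz
    push Not at hz
    have hne : X.cx a ≠ 0 ∨ X.cy a ≠ 0 := by
      by_contra h
      push Not at h
      exact hz.1 h.1 h.2
    obtain ⟨r, hrW, hrx, hry, hrr, har⟩ := hr a ha hn hne hz.2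
    obtain ⟨θ, hθ⟩ := H.conj.exists_trace_one
    -- a plane vector of norm one with product one with `a`
    obtain ⟨p, q, hpp, hap⟩ : ∃ p q : F, p * H.σ q + q * H.σ p = 1 ∧ H.h a (X.pl p q) = 1 := by
      have hzz := hz.2
      rw [h_pl] at hzz
      by_cases hy : X.cy a = 0
      · have hx : X.cx a ≠ 0 := hne.resolve_right (fun h => h hy)
        have hσx : H.σ (X.cx a) ≠ 0 := (map_ne_zero _).mpr hx
        refine ⟨θ * X.cx a, H.σ (X.cx a)⁻¹, ?_, ?_⟩
        · simp only [map_mul, map_inv₀, H.conj.invol]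
          field_simp
          linear_combination hθ
        · rw [h_split, hy, H.conj.invol]; field_simp; ring
      · have hσy : H.σ (X.cy a) ≠ 0 := (map_ne_zero _).mpr hy
        set q := θ * X.cy a
        refine ⟨H.σ ((1 - X.cx a * H.σ q) / X.cy a), q, ?_, ?_⟩
        · rw [H.conj.invol]
          simp only [q, map_mul, H.conj.invol, map_div₀, map_sub, map_one]
          field_simp
          linear_combination hθ - θ * H.σ θ * hzz
        · rw [h_split, H.conj.invol]; field_simp; ring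
    set D := r + X.pl p q with hD
    have hrp : H.h r (X.pl p q) = 0 := by rw [h_split, hrx, hry]; ring
    have hDD : H.h D D = 0 := by
      rw [hD, H.add_left, H.add_right, H.add_right, hrp, H.eq_zero_symm hrp, hrr, h_pl, hpp]
      linear_combination h2
    have haD : H.h a D = 1 := by rw [hD, H.add_right, har, hap, zero_add]
    have hDW : D ∈ X.W := X.W.add_mem hrW (X.pl_mem _ _)
    have ha'n : H.h (a + D) (a + D) = X.μ := by
      rw [H.add_left a D, H.add_right a a D, H.add_right D a D, hn, hDD, H.symm D a, haD, map_one]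
      linear_combination h2
    have hd1 : H.h (a + D - a) (a + D - a) = 0 := by rw [add_sub_cancel_left]; exact hDD
    have hd2 : H.h a (a + D - a) ≠ 0 := by rw [add_sub_cancel_left, haD]; exact one_ne_zero
    have hν : H.h (X.pl (X.cx (a + D)) (X.cy (a + D))) (X.pl (X.cx (a + D)) (X.cy (a + D))) ≠ 0 := by
      have ex : X.cx (a + D) = X.cx a + p := by
        have := X.cx_pl p q
        simp only [cx] at this hrx ⊢
        rw [H.add_left, hD, H.add_left, hrx, this, zero_add]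
      have ey : X.cy (a + D) = X.cy a + q := by
        have := X.cy_pl p q
        simp only [cy] at this hry ⊢
        rw [H.add_left, hD, H.add_left, hry, this, zero_add]
      have hzz := hz.2
      rw [h_pl] at hzz
      rw [h_split] at hap
      have hap' := congrArg H.σ hap
      rw [map_add, map_mul, map_mul, H.conj.invol, H.conj.invol, map_one] at hap'
      rw [h_pl, ex, ey, map_add, map_add, show (X.cx a + p) * (H.σ (X.cy a) + H.σ q) +
        (X.cy a + q) * (H.σ (X.cx a) + H.σ p) = 1 by linear_combination hzz + hpp + hap + hap' + h2]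
      exact one_ne_zero
    obtain ⟨x, y, e1, e2⟩ := X.link_plane hF (X.W.add_mem ha hDW) ha'n (Or.inr hν)
    exact ⟨x, y, e1, e2.trans
      ⟨fun h => X.move_back h ha hn hd1 hd2, fun h => X.move h (X.W.add_mem ha hDW) ha'n hd1 hd2⟩⟩
  obtain ⟨x, y, hxy, hiff⟩ := link a ha hn
  obtain ⟨x₀, y₀, -, hiff₀⟩ := link a₀ h₀.1 h₀.2.1
  rw [h_pl] at hxy
  exact hiff.1 (X.pl_conn (hiff₀.2 h₀) hxy)

include hF in
/-- The first step: three dimensions with an element permuting the three classes. -/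
theorem mem_S_base {r : V} (hr : r ∈ X.W) (hrx : X.cx r = 0) (hry : X.cy r = 0) (hrr : H.h r r = 1)
    (hdec : ∀ a ∈ X.W, a = X.pl (X.cx a) (X.cy a) + H.h a r • r)
    {g : H.SIsom} (hg : g ∈ K) {lam m ν : F} (hge : g.1.1 X.e = lam • X.e) (hgr : g.1.1 r = m • r)
    (hgb : g.1.1 X.b = ν • X.b) (hlm : lam ≠ m) {κ ρ : F} (hκ : κ ≠ 0) (hρ : ρ ≠ 0)
    (h₀' : X.pl κ κ + ρ • r ∈ X.S) {a : V} (ha : a ∈ X.W) (hn : H.h a a = X.μ) : a ∈ X.S := by
  have h2 := two_zero (H := H) hF
  have hμ := X.μ_one hF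
  have hdbl : ∀ v : V, v + v = 0 := fun v => by
    rw [show v + v = ((1 : F) + 1) • v by rw [add_smul, one_smul], h2, zero_smul]
  have hN : ∀ {x : F}, x ≠ 0 → x * H.σ x = 1 := unit_norm (H := H) hF
  obtain ⟨ω, hω⟩ := H.conj.exists_trace_one
  have hω0 : ω ≠ 0 := fun e => by rw [e, map_zero, add_zero] at hω; exact zero_ne_one hω
  have hω1 : ω ≠ 1 := fun e => by rw [e, map_one, h2] at hω; exact zero_ne_one hω
  have hωN := hN hω0
  have hσω : H.σ ω = ω + 1 := by linear_combination hω - ω * h2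
  have hωsq : ω * ω = ω + 1 := by rw [hσω] at hωN; linear_combination hωN - (ω + 1) * h2 + 1 * h2
  have hrp : ∀ x y, H.h r (X.pl x y) = 0 := fun x y => by rw [h_split, hrx, hry]; ring
  have hpr : ∀ x y, H.h (X.pl x y) r = 0 := fun x y => H.eq_zero_symm (hrp x y)
  have hmem : ∀ x y c, X.pl x y + c • r ∈ X.W := fun x y c =>
    X.W.add_mem (X.pl_mem x y) (X.W.smul_mem c hr)
  have hh : ∀ x y c x' y' c', H.h (X.pl x y + c • r) (X.pl x' y' + c' • r) =
      x * H.σ y' + y * H.σ x' + c * H.σ c' := by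
    intro x y c x' y' c'
    rw [H.add_left, H.add_right, H.add_right, h_pl, H.smul_left, H.smul_right, H.smul_left, hrp,
      H.smul_right, hpr, hrr]
    ring
  have hstep : ∀ {x y c x' y' c' : F}, X.pl x y + c • r ∈ X.S →
      x' * H.σ y' + y' * H.σ x' + c' * H.σ c' = 1 →
      (x' - x) * H.σ (y' - y) + (y' - y) * H.σ (x' - x) + (c' - c) * H.σ (c' - c) = 0 →
      x * H.σ (y' - y) + y * H.σ (x' - x) + c * H.σ (c' - c) ≠ 0 → X.pl x' y' + c' • r ∈ X.S := by
    intro x y c x' y' c' h e1 e2 e3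
    have e : X.pl x' y' + c' • r - (X.pl x y + c • r) = X.pl (x' - x) (y' - y) + (c' - c) • r := by
      rw [← pl_sub, sub_smul]; abel
    refine X.move h (hmem _ _ _) (by rw [hh, hμ, e1]) ?_ ?_
    · rw [e, hh, e2]
    · rw [e, hh]; exact e3
  -- the iso classes
  set P : F → F → Prop := fun κ ρ => X.pl κ 0 + ρ • r ∈ X.S
  have plane : ∀ {κ ρ}, κ ≠ 0 → ρ ≠ 0 → (P κ ρ ↔ X.pl κ κ + ρ • r ∈ X.S) ∧
      (X.pl 0 κ + ρ • r ∈ X.S ↔ X.pl κ κ + ρ • r ∈ X.S) := by
    intro κ ρ hκ hρ
    have k1 := hN hκ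
    have k2 := hN hρ
    refine ⟨⟨fun h => ?_, fun h => ?_⟩, ⟨fun h => ?_, fun h => ?_⟩⟩ <;> apply hstep h <;>
      simp [hκ, k2] <;> linear_combination k1 + k1 + h2
  have scale : ∀ {κ ρ}, κ ≠ 0 → ρ ≠ 0 → P κ ρ → P (ω * ω * κ) (ω * ω * ρ) := by
    intro κ ρ hκ hρ h
    have k1 := hN hκ
    have k2 := hN hρ
    have hκ' : ω * ω * κ ≠ 0 := mul_ne_zero (mul_ne_zero hω0 hω0) hκ
    have hρ' : ω * ω * ρ ≠ 0 := mul_ne_zero (mul_ne_zero hω0 hω0) hρ
    refine (plane hκ' hρ').1.2 ((plane hκ' hρ').2.1 ?_)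
    have hσsq : H.σ (ω + 1) = ω := by rw [map_add, map_one, hσω]; linear_combination h2
    rw [hωsq]
    refine hstep h ?_ ?_ ?_
    · simp only [map_mul, map_zero, hσsq, mul_zero, zero_mul, add_zero, zero_add]
      linear_combination ((ω + 1) * ω) * k2 + hωsq + ω * h2
    · simp only [map_mul, map_sub, map_zero, map_neg, hσsq, zero_sub, sub_zero]
      linear_combination (-(2 * ω + 1)) * k1 + (ω * ω - ω) * k2 + hωsq - ω * h2
    · simp only [map_mul, map_sub, map_zero, hσsq, zero_sub, sub_zero, zero_mul, add_zero]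
      rw [show κ * (ω * H.σ κ) + ρ * (ω * H.σ ρ - H.σ ρ) = 1 by
        linear_combination ω * k1 + (ω - 1) * k2 + (ω - 1) * h2]
      exact one_ne_zero
  have h₀ : P κ ρ := (plane hκ hρ).1.2 h₀'
  -- the element `g` moves between the classes
  have hlam0 : lam ≠ 0 := by
    intro e
    rw [e, zero_smul] at hge
    have := X.hef
    rw [g.1.1.map_eq_zero_iff.1 hge, H.zero_left] at this
    exact zero_ne_one this
  have hm0 : m ≠ 0 := by
    intro e
    rw [e, zero_smul] at hgr
    rw [g.1.1.map_eq_zero_iff.1 hgr, H.zero_left] at hrr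
    exact zero_ne_one hrr
  have hν0 : ν ≠ 0 := by
    intro e
    rw [e, zero_smul] at hgb
    exact X.hbb (by rw [g.1.1.map_eq_zero_iff.1 hgb, H.zero_left])
  have hgmove : ∀ {κ ρ}, κ ≠ 0 → ρ ≠ 0 → P κ ρ → P (κ * lam / ν) (ρ * m / ν) := by
    intro κ ρ hκ hρ h
    have h1 := HermSpace.uCentres_smul (HermSpace.uCentres_map h.2.2 hg) ν⁻¹
    refine ⟨hmem _ _ _, ?_, ?_⟩
    · have k1 := hN (div_ne_zero (mul_ne_zero hρ hm0) hν0)
      rw [hh, hμ]
      simpa using k1
    · convert h1 using 1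
      simp only [pl, zero_smul, add_zero, map_add, map_smul, hge, hgr, hgb, smul_add, smul_smul,
        inv_mul_cancel₀ hν0, one_smul]
      congr 1
      congr 1 <;> · rw [div_eq_mul_inv]; congr 1; ring
  -- all classes
  have hall : ∀ κ' ρ' : F, κ' ≠ 0 → ρ' ≠ 0 → P κ' ρ' := by
    have hω4 : ω * ω * (ω * ω) = ω := by rw [hωsq]; linear_combination hωsq + (ω + 1) * h2
    have hunit : ∀ {x : F}, x ≠ 0 → x = 1 ∨ x = ω * ω ∨ x = ω * ω * (ω * ω) := by
      intro x hx
      rcases hF (x + H.σ x) (H.conj.trace_mem x) with e | e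
      · have h1 : x * x = 1 := by linear_combination x * e - hN hx - h2
        have h3 : (x - 1) * (x - 1) = 0 := by linear_combination h1 + (1 - x) * h2
        rw [mul_eq_zero, or_self, sub_eq_zero] at h3
        exact Or.inl h3
      · have h1 : x * x = x + 1 := by linear_combination x * e - hN hx - h2
        have h3 : (x - ω) * (x - (ω + 1)) = 0 := by linear_combination h1 + hωsq + (ω + 1 - ω * x) * h2
        rw [mul_eq_zero, sub_eq_zero, sub_eq_zero] at h3
        rcases h3 with h3 | h3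
        · exact Or.inr (Or.inr (h3.trans hω4.symm))
        · exact Or.inr (Or.inl (h3.trans hωsq.symm))
    have hP0 : P κ ρ := h₀
    have hratio : ∀ κ' : F, κ' ≠ 0 → ∃ ρ', ρ' ≠ 0 ∧ P κ' ρ' ∧ ρ' * κ = ρ * κ' := by
      intro κ' hκ'
      rcases hunit (div_ne_zero hκ' hκ) with e | e | e <;> rw [div_eq_iff hκ] at e <;> rw [e]
      · exact ⟨ρ, hρ, by rwa [one_mul], by ring⟩
      · exact ⟨ω * ω * ρ, by simp [hω0, hρ], scale hκ hρ hP0, by ring⟩
      · refine ⟨ω * ω * (ω * ω * ρ), by simp [hω0, hρ], ?_, by ring⟩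
        rw [mul_assoc (ω * ω)]
        exact scale (by simp [hω0, hκ]) (by simp [hω0, hρ]) (scale hκ hρ hP0)
    -- the three ratios
    have hclass : ∀ {κ₁ ρ₁}, κ₁ ≠ 0 → ρ₁ ≠ 0 → P κ₁ ρ₁ → ∀ κ₂ ρ₂, κ₂ ≠ 0 → ρ₂ * κ₁ = ρ₁ * κ₂ → P κ₂ ρ₂ := by
      intro κ₁ ρ₁ hκ₁ hρ₁ h κ₂ ρ₂ hκ₂ e
      have he : ρ₂ = κ₂ / κ₁ * ρ₁ := by field_simp; linear_combination e
      have hk : κ₂ = κ₂ / κ₁ * κ₁ := (div_mul_cancel₀ _ hκ₁).symm
      rw [he, hk]
      rcases hunit (div_ne_zero hκ₂ hκ₁) with e1 | e1 | e1 <;> rw [← hk] <;>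
        conv_lhs => rw [hk, e1]
      all_goals rw [e1]
      · rwa [one_mul, one_mul]
      · exact scale hκ₁ hρ₁ h
      · rw [mul_assoc (ω * ω), mul_assoc (ω * ω) (ω * ω) ρ₁]
        exact scale (by simp [hω0, hκ₁]) (by simp [hω0, hρ₁]) (scale hκ₁ hρ₁ h)
    intro κ' ρ' hκ' hρ'
    have h1 := hgmove hκ hρ h₀
    have hκ1 : κ * lam / ν ≠ 0 := div_ne_zero (mul_ne_zero hκ hlam0) hν0
    have hρ1 : ρ * m / ν ≠ 0 := div_ne_zero (mul_ne_zero hρ hm0) hν0
    have h2' := hgmove hκ1 hρ1 h1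
    have hr' : m / lam ≠ 1 := fun e => hlm ((div_eq_one_iff_eq hlam0).1 e).symm
    have hr0 : m / lam ≠ 0 := div_ne_zero hm0 hlam0
    -- compare the wanted ratio with that of `(κ, ρ)`
    set τ : F := ρ' * κ / (ρ * κ') with hτ
    have hτ0 : τ ≠ 0 := div_ne_zero (mul_ne_zero hρ' hκ) (mul_ne_zero hρ hκ')
    have hτe : ρ' * κ = τ * (ρ * κ') := (div_mul_cancel₀ _ (mul_ne_zero hρ hκ')).symm
    have hcases : τ = 1 ∨ τ = m / lam ∨ τ = m / lam * (m / lam) := by
      rcases hunit hτ0 with e | e | e <;> rcases hunit hr0 with f | f | f <;>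
        first
          | exact absurd f hr'
          | exact Or.inl e
          | exact Or.inr (Or.inl (e.trans f.symm))
          | (refine Or.inr (Or.inr ?_); rw [e, f]; ring_nf; done)
          | (refine Or.inr (Or.inr ?_); rw [e, f, hω4, hωsq]; linear_combination hωsq + ω * h2)
          | (refine Or.inr (Or.inr ?_); rw [e, f, hω4])
    rcases hcases with e | e | e
    · exact hclass hκ hρ h₀ κ' ρ' hκ' (by rw [hτe, e, one_mul])
    · refine hclass hκ1 hρ1 h1 κ' ρ' hκ' ?_
      rw [e] at hτe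
      field_simp at hτe ⊢
      linear_combination hτe
    · refine hclass (div_ne_zero (mul_ne_zero hκ1 hlam0) hν0) (div_ne_zero (mul_ne_zero hρ1 hm0) hν0)
        h2' κ' ρ' hκ' ?_
      rw [e] at hτe
      field_simp at hτe ⊢
      linear_combination hτe
  -- a plane vector
  have hzero : ∀ v : V, X.cx v = 0 → X.cy v = 0 → X.pl (X.cx v) (X.cy v) = 0 := fun v h1 h2 => by
    simp [pl, h1, h2]
  have hplane : X.pl 1 ω ∈ X.S := by
    have hn1 : H.h (X.pl 1 ω) (X.pl 1 ω) = X.μ := by rw [h_pl, hμ, map_one]; linear_combination hω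
    refine ⟨X.pl_mem _ _, hn1, ?_⟩
    set c := X.pl 1 0 + (1 : F) • r + ω • X.b with hc
    set d := X.pl 0 ω + (1 : F) • r + (ω + 1) • X.b with hd
    have hcC : c ∈ H.uCentres K := by
      have := HermSpace.uCentres_smul (hall (ω + 1) (ω + 1)
        (fun e => hω1 (by linear_combination e - h2)) (fun e => hω1 (by linear_combination e - h2))).2.2 ω
      convert this using 1
      have e : ω * (ω + 1) = 1 := by linear_combination hωsq + ω * h2
      simp only [hc, pl, smul_add, smul_smul, zero_smul, add_zero, mul_zero, e, one_smul]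
    have hdC : d ∈ H.uCentres K := by
      have h0 := ((plane (κ := ω * ω) (ρ := ω) (mul_ne_zero hω0 hω0) hω0).2.2
        ((plane (κ := ω * ω) (ρ := ω) (mul_ne_zero hω0 hω0) hω0).1.1 (hall _ _ (mul_ne_zero hω0 hω0) hω0))).2.2
      have := HermSpace.uCentres_smul h0 (ω + 1)
      convert this using 1
      have e1 : (ω + 1) * (ω * ω) = ω := by rw [hωsq]; linear_combination hωsq + (ω + 1) * h2
      have e2 : (ω + 1) * ω = 1 := by linear_combination hωsq + ω * h2
      simp only [hd, pl, smul_add, smul_smul, zero_smul, add_zero, mul_zero, zero_add, e1, e2, one_smul]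
    have esum : X.pl 1 ω + X.b = c + d := by
      have e1 : (1 : F) • r + (1 : F) • r = 0 := hdbl _
      have e2 : ω • X.b + (ω + 1) • X.b = X.b := by
        rw [← add_smul, show ω + (ω + 1) = 1 by linear_combination ω * h2, one_smul]
      simp only [hc, hd, pl, zero_smul, add_zero, zero_add]
      calc (1 : F) • X.e + ω • X.f + X.b = (1 : F) • X.e + ω • X.f + ((1 : F) • r + (1 : F) • r) +
            (ω • X.b + (ω + 1) • X.b) := by rw [e1, e2, add_zero]
        _ = _ := by abel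
    have hcd : H.h c d = 1 := by
      have hbp : ∀ x y, H.h X.b (X.pl x y) = 0 := fun x y => X.hb' (X.pl_mem x y)
      have hpb : ∀ x y, H.h (X.pl x y) X.b = 0 := fun x y => X.hb _ (X.pl_mem x y)
      have hbb : H.h X.b X.b = 1 := by
        have := hμ
        rw [Setup.μ] at this
        linear_combination -this - h2
      rw [hc, hd]
      simp only [H.add_left, H.add_right, H.smul_left, H.smul_right, h_pl, hrp, hpr, hbp, hpb, hrr, hbb,
        X.hb r hr, X.hb' hr, map_zero, map_one, map_add, hσω]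
      linear_combination hωsq + (ω + ω + 1) * h2
    have e : X.pl 1 ω + X.b = (1 : F) • c + (1 : F) • d := by rw [one_smul, one_smul, esum]
    rw [e]
    refine HermSpace.uCentres_span hcC hdC (by rw [hcd]; exact one_ne_zero) ?_
    rw [← e]
    exact X.iso_add (X.pl_mem _ _) hn1
  by_cases hz : (X.cx a = 0 ∧ X.cy a = 0) ∨ H.h (X.pl (X.cx a) (X.cy a)) (X.pl (X.cx a) (X.cy a)) ≠ 0
  · obtain ⟨x, y, hxy, hiff⟩ := X.link_plane hF ha hn hz
    rw [h_pl] at hxy
    exact hiff.1 (X.pl_conn hplane hxy)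
  push Not at hz
  have hzz := hz.2
  rw [h_pl] at hzz
  have hc := hdec a ha
  have hρ0 : H.h a r ≠ 0 := by
    intro e
    rw [e, zero_smul, add_zero] at hc
    rw [hc, hz.2] at hn
    exact X.μ_ne hn.symm
  rw [hc]
  -- the iso vectors of the plane are multiples of three
  by_cases hy : X.cy a = 0
  · rw [hy]
    exact hall _ _ (fun e => hz.1 e hy) hρ0
  by_cases hx : X.cx a = 0
  · rw [hx]
    exact (plane hy hρ0).2.2 ((plane hy hρ0).1.1 (hall _ _ hy hρ0))
  · have hxy : X.cx a = X.cy a := by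
      set x := X.cx a
      set y := X.cy a
      have k1 := hN hx
      have k2 := hN hy
      have h1 : (x - y) * (H.σ x - H.σ y) = 0 := by linear_combination k1 + k2 - hzz + h2
      rcases mul_eq_zero.1 h1 with h | h
      · exact sub_eq_zero.1 h
      · exact H.conj.inj (sub_eq_zero.1 h)
    rw [hxy]
    exact (plane hy hρ0).1.1 (hall _ _ hy hρ0)

end Setup

end Cfsg.Lib.SUTwoGen
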